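import Cfsg.Agent.P3711.Pair
import Cfsg.Agent.S0283
import Cfsg.Agent.S0279

/-!
# Homomorphisms of `SU 4` over the field with four elements from a quotient
-/

set_option autoImplicit false

namespace Cfsg.Agent.P3711

open Matrix Cfsg Cfsg.Agent.Phan Cfsg.Agent.Phan.Cover Cfsg.Agent.H434
open Cfsg.Agent.LieClassical.HermBasic Cfsg.Agent.H433

variable {F : Type*} [Field F] [Fintype F]

theorem isSimpleGroup_four (hF : Fintype.card F = 2 ^ 2) : IsSimpleGroup (SU 4 F 2) := by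
  have h1 : IsSimpleGroup (Cfsg.PSU 4 F 2) :=
    Cfsg.Agent.S0283.result hF 4 (by omega) (by omega)
  have h2 := Cfsg.Agent.S0279.result hF 4 (by omega)
  have h3 : Nat.gcd 4 (2 + 1) = 1 := by decide
  rw [h3] at h2
  have h4 : Subgroup.center (SU 4 F 2) = ⊥ := Subgroup.card_eq_one.1 h2
  have e : SU 4 F 2 ≃* Cfsg.PSU 4 F 2 :=
    MulEquiv.ofBijective (QuotientGroup.mk' (Subgroup.center (SU 4 F 2))) ⟨by
      rw [← MonoidHom.ker_eq_bot_iff, QuotientGroup.ker_mk', h4], QuotientGroup.mk'_surjective _⟩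
  exact (e.isSimpleGroup_congr).2 h1

theorem omega_ne_one (hF : Fintype.card F = 2 ^ 2) {ω : F} (hω : ω * ω + ω + 1 = 0) : ω ≠ 1 := by
  rintro rfl
  have h20 := two_eq_zero hF
  have : (1 : F) * 1 + 1 + 1 = 1 := by linear_combination h20
  rw [this] at hω
  exact one_ne_zero hω

/-- a diagonal element in the center has equal first two entries -/
theorem center_dg (hF : Fintype.card F = 2 ^ 2) {a b c : F} (h : a * b * c = 1)
    (hc : dg hF a b c h ∈ Subgroup.center (SU 3 F 2)) : a = b ∧ b = c := by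
  rw [Subgroup.mem_center_iff] at hc
  have h1 := congrArg mat (hc (cyc hF))
  rw [mat_mul, mat_mul, mat_dg, mat_cyc] at h1
  have h10 := congrFun (congrFun h1 1) 0
  have h21 := congrFun (congrFun h1 2) 1
  simp [Matrix.mul_apply, Fin.sum_univ_three] at h10 h21
  exact ⟨h10, h21⟩

variable (hF : Fintype.card F = 2 ^ 2) {ω : F} (hω : ω * ω + ω + 1 = 0)

theorem zz_eq : zz hF hω * emb hF 1 (by omega : 1 + 2 ≤ 3) (t2 hF hω) =
    emb hF 0 (by omega : 0 + 2 ≤ 3) (t2 hF hω) := by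
  have h3 := om3' hω
  apply mat_inj
  rw [mat_mul, mat_emb_one_three, mat_emb_zero_three, mat_dg, mat_t2]
  ext i j
  fin_cases i <;> fin_cases j <;> simp [Matrix.mul_apply, Fin.sum_univ_three]
  linear_combination h3

theorem not_comm_zero {G : Type*} [Group G] (g : SU 3 F 2 →* G)
    (hk : g.ker ≤ Subgroup.center (SU 3 F 2)) :
    ¬ Commute (g (emb hF 0 (by omega : 0 + 2 ≤ 3) (t2 hF hω)))
      (g (emb hF 1 (by omega : 1 + 2 ≤ 3) (wey hF))) := by
  intro h
  have h3 := om3' hω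
  have h3' : 1 * (ω * ω) * ω = 1 := by linear_combination h3
  have e : emb hF 0 (by omega : 0 + 2 ≤ 3) (t2 hF hω) * emb hF 1 (by omega : 1 + 2 ≤ 3) (wey hF) =
      dg hF 1 (ω * ω) ω h3' * (emb hF 1 (by omega : 1 + 2 ≤ 3) (wey hF) *
        emb hF 0 (by omega : 0 + 2 ≤ 3) (t2 hF hω)) := by
    apply mat_inj
    rw [mat_mul, mat_mul, mat_mul, mat_emb_one_three, mat_emb_zero_three, mat_dg, mat_t2, mat_wey']
    ext i j
    fin_cases i <;> fin_cases j <;> simp [Matrix.mul_apply, Fin.sum_univ_three]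
    linear_combination -h3
  have e2 : g (dg hF 1 (ω * ω) ω h3') = 1 := by
    have h1 := congrArg g e
    rw [map_mul, map_mul, map_mul, h.eq] at h1
    exact right_eq_mul.1 h1
  have h5 := center_dg hF h3' (hk e2)
  have := h5.1.trans h5.2
  exact omega_ne_one hF hω this.symm

theorem not_comm_one {G : Type*} [Group G] (g : SU 3 F 2 →* G)
    (hk : g.ker ≤ Subgroup.center (SU 3 F 2)) :
    ¬ Commute (g (emb hF 1 (by omega : 1 + 2 ≤ 3) (t2 hF hω)))
      (g (emb hF 0 (by omega : 0 + 2 ≤ 3) (wey hF))) := by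
  intro h
  have h3 := om3' hω
  have h3' : (ω * ω) * ω * 1 = 1 := by linear_combination h3
  have e : emb hF 1 (by omega : 1 + 2 ≤ 3) (t2 hF hω) * emb hF 0 (by omega : 0 + 2 ≤ 3) (wey hF) =
      dg hF (ω * ω) ω 1 h3' * (emb hF 0 (by omega : 0 + 2 ≤ 3) (wey hF) *
        emb hF 1 (by omega : 1 + 2 ≤ 3) (t2 hF hω)) := by
    apply mat_inj
    rw [mat_mul, mat_mul, mat_mul, mat_emb_one_three, mat_emb_zero_three, mat_dg, mat_t2, mat_wey']
    ext i j
    fin_cases i <;> fin_cases j <;> simp [Matrix.mul_apply, Fin.sum_univ_three]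
    linear_combination -h3
  have e2 : g (dg hF (ω * ω) ω 1 h3') = 1 := by
    have h1 := congrArg g e
    rw [map_mul, map_mul, map_mul, h.eq] at h1
    exact right_eq_mul.1 h1
  have h5 := center_dg hF h3' (hk e2)
  exact omega_ne_one hF hω h5.2

/-- **From a quotient of `SU 4` to a homomorphism matching the given data.** -/
theorem exists_four {G : Type*} [Group G] (g₀ g₁ : SU 3 F 2 →* G) (K : Subgroup G)
    (hK₀ : ∀ x, g₀ x ∈ K) (hK₁ : ∀ x, g₁ x ∈ K) (gg : SU 4 F 2 →* K)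
    (hgg : Function.Surjective gg)
    (h23 : ∀ y : SU 2 F 2, g₀ (emb hF 1 (by omega : 1 + 2 ≤ 3) y) =
      g₁ (emb hF 0 (by omega : 0 + 2 ≤ 3) y))
    (hcomm : ∀ x y : SU 2 F 2, g₀ (emb hF 0 (by omega : 0 + 2 ≤ 3) x) *
      g₁ (emb hF 1 (by omega : 1 + 2 ≤ 3) y) = g₁ (emb hF 1 (by omega : 1 + 2 ≤ 3) y) *
      g₀ (emb hF 0 (by omega : 0 + 2 ≤ 3) x))
    (hk₀ : g₀.ker ≤ Subgroup.center (SU 3 F 2)) (hk₁ : g₁.ker ≤ Subgroup.center (SU 3 F 2)) :
    ∃ Γ : SU 4 F 2 →* G,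
      (∀ x, Γ (emb hF 0 (by omega : 0 + 3 ≤ 4) x) = g₀ x) ∧
      (∀ x, Γ (emb hF 1 (by omega : 1 + 3 ≤ 4) x) = g₁ x) := by
  obtain ⟨ω, hω⟩ := exists_omega hF
  -- non-triviality
  have hz₀ : g₀ (zz hF hω) ≠ 1 := by
    intro h
    have h1 := congrArg g₀ (zz_eq hF hω)
    rw [map_mul, h, one_mul, h23] at h1
    apply not_comm_zero hF hω g₁ hk₁
    rw [h1]
    exact hcomm _ _
  have hz₁ : g₁ (zz hF hω) ≠ 1 := by
    intro h
    have h1 := congrArg g₁ (zz_eq hF hω)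
    rw [map_mul, h, one_mul, ← h23] at h1
    apply not_comm_one hF hω g₀ hk₀
    rw [← h1]
    exact (hcomm _ _).symm
  -- `gg` is injective
  have hsimple := isSimpleGroup_four hF
  have hinj : Function.Injective gg := by
    rw [← MonoidHom.ker_eq_bot_iff]
    rcases gg.normal_ker.eq_bot_or_eq_top with h | h
    · exact h
    · exfalso
      obtain ⟨y, hy⟩ := hgg ⟨g₀ (zz hF hω), hK₀ _⟩
      have hy' : y ∈ gg.ker := by rw [h]; trivial
      rw [MonoidHom.mem_ker] at hy'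
      rw [hy'] at hy
      exact hz₀ (congrArg Subtype.val hy).symm
  set e : SU 4 F 2 ≃* K := MulEquiv.ofBijective gg ⟨hinj, hgg⟩ with he
  set ρ₀ : SU 3 F 2 →* SU 4 F 2 := e.symm.toMonoidHom.comp (g₀.codRestrict K hK₀) with hρ₀
  set ρ₁ : SU 3 F 2 →* SU 4 F 2 := e.symm.toMonoidHom.comp (g₁.codRestrict K hK₁) with hρ₁
  have e₀ : ∀ x, e (ρ₀ x) = ⟨g₀ x, hK₀ x⟩ := fun x => e.apply_symm_apply _
  have e₁ : ∀ x, e (ρ₁ x) = ⟨g₁ x, hK₁ x⟩ := fun x => e.apply_symm_apply _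
  obtain ⟨Γ, hΓ₀, hΓ₁⟩ := exists_hom_of_pair hF hω ρ₀ ρ₁ (by
      intro h
      have := e₀ (zz hF hω)
      rw [h, map_one] at this
      exact hz₀ (congrArg Subtype.val this).symm) (by
      intro h
      have := e₁ (zz hF hω)
      rw [h, map_one] at this
      exact hz₁ (congrArg Subtype.val this).symm) (by
      intro y
      apply e.injective
      rw [e₀, e₁]
      exact Subtype.ext (h23 y)) (by
      intro x y
      apply e.injective
      rw [map_mul, map_mul, e₀, e₁]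
      exact Subtype.ext (hcomm x y))
  refine ⟨K.subtype.comp (e.toMonoidHom.comp Γ), ?_, ?_⟩
  · intro x
    change (e (Γ _) : G) = _
    rw [hΓ₀, e₀]
  · intro x
    change (e (Γ _) : G) = _
    rw [hΓ₁, e₁]

end Cfsg.Agent.P3711
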