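import Cfsg.Agent.P3711.Ind

/-!
# Generators of `SU 3` over the field with four elements
-/

set_option autoImplicit false

namespace Cfsg.Agent.P3711

open Matrix Cfsg Cfsg.Agent.Phan Cfsg.Agent.Phan.Cover Cfsg.Agent.H434
open Cfsg.Agent.LieClassical.HermBasic

variable {F : Type*} [Field F] [Fintype F]

theorem exists_omega (hF : Fintype.card F = 2 ^ 2) : ∃ ω : F, ω * ω + ω + 1 = 0 := by
  classical
  obtain ⟨x, hx⟩ : ∃ x : F, x ∉ ({0, 1} : Finset F) := by
    by_contra hcon
    push Not at hcon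
    have h1 : (Finset.univ : Finset F) ⊆ {0, 1} := fun x _ => hcon x
    have h2 := Finset.card_le_card h1
    have h3 := Finset.card_le_two (a := (0 : F)) (b := 1)
    rw [Finset.card_univ, hF] at h2
    omega
  simp only [Finset.mem_insert, Finset.mem_singleton, not_or] at hx
  have h1 := norm_two hF hx.1
  have h2 : (x - 1) * (x * x + x + 1) = 0 := by linear_combination h1
  exact ⟨x, (mul_eq_zero.1 h2).resolve_left (sub_ne_zero.2 hx.2)⟩

theorem cases_four (hF : Fintype.card F = 2 ^ 2) {ω : F} (hω : ω * ω + ω + 1 = 0) (x : F) :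
    x = 0 ∨ x = 1 ∨ x = ω ∨ x = ω * ω := by
  by_cases h0 : x = 0
  · exact Or.inl h0
  right
  have h1 := norm_two hF h0
  have h2 : (x - 1) * ((x - ω) * (x - ω * ω)) = 0 := by
    linear_combination h1 + (1 - ω) * hω + (x - x * x) * hω - (x - x * ω) * hω
  rcases mul_eq_zero.1 h2 with h | h
  · exact Or.inl (sub_eq_zero.1 h)
  rcases mul_eq_zero.1 h with h | h
  · exact Or.inr (Or.inl (sub_eq_zero.1 h))
  · exact Or.inr (Or.inr (sub_eq_zero.1 h))

theorem mk_isom (hF : Fintype.card F = 2 ^ 2) (A : Matrix (Fin 3) (Fin 3) F)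
    (h : Aᵀ * A.map (fun x => x * x) = 1) (u v : Fin 3 → F) :
    hermForm 3 F 2 (A *ᵥ u) (A *ᵥ v) = hermForm 3 F 2 u v := by
  revert u v
  rw [Cfsg.Agent.LieClassical.GUOrder.mul_map_eq_one_iff hF, ← h]
  congr 1
  ext i j
  rw [Matrix.map_apply, Matrix.map_apply, Cfsg.Agent.LieClassical.GUOrder.frob_apply, pow_two]

theorem pow_four_eq {G : Type*} [Group G] (x : G) : x ^ 4 = (x * x) * (x * x) := by
  rw [← pow_two, ← pow_two, ← pow_mul]

section gens

variable (hF : Fintype.card F = 2 ^ 2) {ω : F} (hω : ω * ω + ω + 1 = 0)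

/-- the matrix `diag(a, b, c)` -/
def dg (a b c : F) (h : a * b * c = 1) : SU 3 F 2 :=
  mk !![a, 0, 0; 0, b, 0; 0, 0, c] (by simp [Matrix.det_fin_three, h]) (by
    have ha : a ≠ 0 := by rintro rfl; simp at h
    have hb : b ≠ 0 := by rintro rfl; simp at h
    have hc : c ≠ 0 := by rintro rfl; simp at h
    have h1 := norm_two hF ha
    have h2 := norm_two hF hb
    have h3 := norm_two hF hc
    rw [pow_two] at h1 h2 h3
    apply mk_isom hF
    ext i j
    fin_cases i <;> fin_cases j <;>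
      simp [Matrix.mul_apply, Fin.sum_univ_three, h1, h2, h3])

/-- the cyclic permutation -/
def cyc : SU 3 F 2 :=
  mk !![0, 0, 1; 1, 0, 0; 0, 1, 0] (by simp [Matrix.det_fin_three]) (by
    apply mk_isom hF
    ext i j
    fin_cases i <;> fin_cases j <;> simp [Matrix.mul_apply, Fin.sum_univ_three])

/-- the swap of the last two coordinates -/
def swp : SU 3 F 2 :=
  mk !![1, 0, 0; 0, 0, 1; 0, 1, 0] (by
      have := neg_eq hF 1
      simp [Matrix.det_fin_three, this]) (by
    apply mk_isom hF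
    ext i j
    fin_cases i <;> fin_cases j <;> simp [Matrix.mul_apply, Fin.sum_univ_three])

/-- the Fourier matrix -/
def fou : SU 3 F 2 :=
  mk !![1, 1, 1; 1, ω, ω * ω; 1, ω * ω, ω] (by
      have h2 := two_eq_zero hF
      simp only [Matrix.det_fin_three, Matrix.of_apply, Matrix.cons_val', Matrix.cons_val_zero, Matrix.cons_val_one, Matrix.cons_val]
      grind) (by
    have h2 := two_eq_zero hF
    apply mk_isom hF
    ext i j
    fin_cases i <;> fin_cases j <;> simp [Matrix.mul_apply, Fin.sum_univ_three] <;> grind)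

/-- a conjugate of the Fourier matrix -/
def fou' : SU 3 F 2 :=
  mk !![1, 1, ω * ω; 1, ω, ω; ω, 1, ω] (by
      have h2 := two_eq_zero hF
      simp only [Matrix.det_fin_three, Matrix.of_apply, Matrix.cons_val', Matrix.cons_val_zero, Matrix.cons_val_one, Matrix.cons_val]
      grind) (by
    have h2 := two_eq_zero hF
    apply mk_isom hF
    ext i j
    fin_cases i <;> fin_cases j <;> simp [Matrix.mul_apply, Fin.sum_univ_three] <;> grind)

theorem mat_dg (a b c : F) (h : a * b * c = 1) :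
    mat (dg hF a b c h) = !![a, 0, 0; 0, b, 0; 0, 0, c] := rfl

theorem mat_cyc : mat (cyc hF) = !![0, 0, 1; 1, 0, 0; 0, 1, 0] := rfl

theorem mat_swp : mat (swp hF) = !![1, 0, 0; 0, 0, 1; 0, 1, 0] := rfl

theorem mat_fou : mat (fou hF hω) = !![1, 1, 1; 1, ω, ω * ω; 1, ω * ω, ω] := rfl

theorem mat_fou' : mat (fou' hF hω) = !![1, 1, ω * ω; 1, ω, ω; ω, 1, ω] := rfl

include hω in
omit [Fintype F] in
theorem om3 : 1 * ω * (ω * ω) = 1 := by linear_combination (ω - 1) * hω

include hω in
omit [Fintype F] in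
theorem om3' : ω * ω * ω = 1 := by linear_combination (ω - 1) * hω

/-- the noncentral torus element -/
abbrev tt : SU 3 F 2 := dg hF 1 ω (ω * ω) (om3 hω)

/-- the central element -/
abbrev zz : SU 3 F 2 := dg hF ω ω ω (om3' hω)

theorem rel_cyc : tt hF hω * cyc hF = cyc hF * (zz hF hω * tt hF hω) := by
  have h2 := two_eq_zero hF
  apply mat_inj
  simp only [mat_mul, mat_dg, mat_cyc]
  ext i j
  fin_cases i <;> fin_cases j <;> simp [Matrix.mul_apply, Fin.sum_univ_three] <;> grind

theorem zz_central (x : SU 3 F 2) : zz hF hω * x = x * zz hF hω := by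
  apply mat_inj
  simp only [mat_mul, mat_dg]
  ext i j
  fin_cases i <;> fin_cases j <;> simp [Matrix.mul_apply, Fin.sum_univ_three] <;> ring

theorem rel_swp1 : swp hF * tt hF hω = (tt hF hω * tt hF hω) * swp hF := by
  have h2 := two_eq_zero hF
  apply mat_inj
  simp only [mat_mul, mat_dg, mat_swp]
  ext i j
  fin_cases i <;> fin_cases j <;> simp [Matrix.mul_apply, Fin.sum_univ_three] <;> grind

theorem rel_swp2 : swp hF * cyc hF = (cyc hF * cyc hF) * swp hF := by
  apply mat_inj
  simp only [mat_mul, mat_cyc, mat_swp]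
  ext i j
  fin_cases i <;> fin_cases j <;> simp [Matrix.mul_apply, Fin.sum_univ_three]

theorem rel_fou1 : fou hF hω * tt hF hω = (cyc hF * cyc hF) * fou hF hω := by
  have h2 := two_eq_zero hF
  apply mat_inj
  simp only [mat_mul, mat_dg, mat_cyc, mat_fou]
  ext i j
  fin_cases i <;> fin_cases j <;> simp [Matrix.mul_apply, Fin.sum_univ_three] <;> grind

theorem rel_fou2 : fou hF hω * cyc hF = tt hF hω * fou hF hω := by
  have h2 := two_eq_zero hF
  apply mat_inj
  simp only [mat_mul, mat_dg, mat_cyc, mat_fou]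
  ext i j
  fin_cases i <;> fin_cases j <;> simp [Matrix.mul_apply, Fin.sum_univ_three] <;> grind

theorem rel_fou1' : fou' hF hω * tt hF hω =
    (cyc hF * tt hF hω * cyc hF * tt hF hω) * fou' hF hω := by
  have h2 := two_eq_zero hF
  apply mat_inj
  simp only [mat_mul, mat_dg, mat_cyc, mat_fou']
  ext i j
  fin_cases i <;> fin_cases j <;> simp [Matrix.mul_apply, Fin.sum_univ_three] <;> grind

theorem rel_fou2' : fou' hF hω * cyc hF = (tt hF hω * cyc hF * tt hF hω) * fou' hF hω := by
  have h2 := two_eq_zero hF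
  apply mat_inj
  simp only [mat_mul, mat_dg, mat_cyc, mat_fou']
  ext i j
  fin_cases i <;> fin_cases j <;> simp [Matrix.mul_apply, Fin.sum_univ_three] <;> grind

theorem swp_four : swp hF ^ 4 = 1 := by
  have h1 : swp hF * swp hF = 1 := by
    apply mat_inj
    simp only [mat_mul, mat_swp, mat_one]
    ext i j
    fin_cases i <;> fin_cases j <;> simp [Matrix.mul_apply, Fin.sum_univ_three]
  rw [pow_four_eq, h1, one_mul]

theorem fou_four : fou hF hω ^ 4 = 1 := by
  have h2 := two_eq_zero hF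
  have h1 : fou hF hω * fou hF hω = swp hF := by
    apply mat_inj
    simp only [mat_mul, mat_swp, mat_fou]
    ext i j
    fin_cases i <;> fin_cases j <;> simp [Matrix.mul_apply, Fin.sum_univ_three] <;> grind
  have h3 : swp hF * swp hF = 1 := by
    apply mat_inj
    simp only [mat_mul, mat_swp, mat_one]
    ext i j
    fin_cases i <;> fin_cases j <;> simp [Matrix.mul_apply, Fin.sum_univ_three]
  rw [pow_four_eq, h1, h3]

theorem fou'_four : fou' hF hω ^ 4 = 1 := by
  have h2 := two_eq_zero hF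
  have h3 : (mat (fou' hF hω) * mat (fou' hF hω)) * (mat (fou' hF hω) * mat (fou' hF hω)) = 1 := by
    have h1 : mat (fou' hF hω) * mat (fou' hF hω) = !![1, 0, 0; 0, 0, ω * ω; 0, ω, 0] := by
      simp only [mat_fou']
      ext i j
      fin_cases i <;> fin_cases j <;> simp [Matrix.mul_apply, Fin.sum_univ_three] <;> grind
    rw [h1]
    ext i j
    fin_cases i <;> fin_cases j <;> simp [Matrix.mul_apply, Fin.sum_univ_three] <;> grind
  apply mat_inj
  rw [pow_four_eq]
  exact h3

/-- **Generation.** -/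
theorem eq_top_of_gens (L : Subgroup (SU 3 F 2)) (h1 : tt hF hω ∈ L) (h2 : cyc hF ∈ L)
    (h3 : swp hF ∈ L) (h4 : fou hF hω ∈ L) (h5 : fou' hF hω ∈ L) : L = ⊤ := by
  have h20 := two_eq_zero hF
  have hω0 : ω ≠ 0 := by
    rintro rfl
    simp at hω
  have hω3 : ω * ω * ω = 1 := om3' hω
  have hz : zz hF hω ∈ L := by
    have h6 : zz hF hω = (cyc hF)⁻¹ * tt hF hω * cyc hF * (tt hF hω)⁻¹ := by
      rw [mul_assoc (cyc hF)⁻¹, rel_cyc hF hω]
      group
    rw [h6]
    exact L.mul_mem (L.mul_mem (L.mul_mem (L.inv_mem h2) h1) h2) (L.inv_mem h1)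
  -- nonzero elements
  have hnz : ∀ x : F, x ≠ 0 → ∃ i : ℕ, x = ω ^ i := by
    intro x hx
    rcases cases_four hF hω x with h | h | h | h
    · exact absurd h hx
    · exact ⟨0, by rw [h, pow_zero]⟩
    · exact ⟨1, by rw [h, pow_one]⟩
    · exact ⟨2, by rw [h, pow_two]⟩
  -- diagonal elements
  have hpow : ∀ (a b c : F) (h : a * b * c = 1) (i : ℕ), mat ((dg hF a b c h) ^ i) =
      !![a ^ i, 0, 0; 0, b ^ i, 0; 0, 0, c ^ i] := by
    intro a b c h i
    induction i with
    | zero =>
      rw [pow_zero, mat_one]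
      ext i j
      fin_cases i <;> fin_cases j <;> simp
    | succ i ih =>
      rw [pow_succ, mat_mul, ih, mat_dg]
      ext i j
      fin_cases i <;> fin_cases j <;> simp [Matrix.mul_apply, Fin.sum_univ_three, pow_succ]
  have hdg : ∀ (a b c : F) (h : a * b * c = 1), dg hF a b c h ∈ L := by
    intro a b c h
    have ha : a ≠ 0 := by rintro rfl; simp at h
    have hb : b ≠ 0 := by rintro rfl; simp at h
    obtain ⟨i, hi⟩ := hnz a ha
    obtain ⟨j, hj⟩ := hnz (b * a⁻¹) (mul_ne_zero hb (inv_ne_zero ha))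
    have hb' : b = ω ^ i * ω ^ j := by rw [← hj, ← hi]; field_simp
    have e : dg hF a b c h = (zz hF hω) ^ i * (tt hF hω) ^ j := by
      have hc : c = ω ^ i * (ω * ω) ^ j := by
        have h6 : a * b ≠ 0 := mul_ne_zero ha hb
        have h7 : a * b * (ω ^ i * (ω * ω) ^ j) = 1 := by
          rw [hb', hi]
          calc ω ^ i * (ω ^ i * ω ^ j) * (ω ^ i * (ω * ω) ^ j)
              = (ω * ω * ω) ^ i * (ω * ω * ω) ^ j := by ring
            _ = 1 := by rw [hω3, one_pow, one_pow, one_mul]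
        exact mul_left_cancel₀ h6 (h.trans h7.symm)
      apply mat_inj
      rw [mat_mul, hpow, hpow, mat_dg]
      ext k l
      fin_cases k <;> fin_cases l <;> simp [Matrix.mul_apply, Fin.sum_univ_three]
      · exact hi
      · exact hb'
      · exact hc
    rw [e]
    exact L.mul_mem (L.pow_mem hz i) (L.pow_mem h1 j)
  -- the images of `e0`
  have horb : ∀ u : Pt 3 F 2, ∃ l ∈ L, l • e0 2 F 2 = u := by
    intro u
    have hn := u.norm
    have hu3 : u.val = ![u.val 0, u.val 1, u.val 2] := by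
      funext i
      fin_cases i <;> rfl
    rw [herm_def, Fin.sum_univ_three] at hn
    have hcol : ∀ (l : SU 3 F 2), mat l 0 0 = u.val 0 → mat l 1 0 = u.val 1 →
        mat l 2 0 = u.val 2 → l • e0 2 F 2 = u := by
      intro l ha hb hc
      apply Pt.ext'
      rw [smul_val, e0_val, Matrix.mulVec_single_one]
      funext i
      fin_cases i
      · exact ha
      · exact hb
      · exact hc
    have h11 := one_add_one hF
    rcases norm_zero_or_one hF (u.val 0) with ⟨a0, a1⟩ | ⟨a0, a1⟩ <;>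
    rcases norm_zero_or_one hF (u.val 1) with ⟨b0, b1⟩ | ⟨b0, b1⟩ <;>
    rcases norm_zero_or_one hF (u.val 2) with ⟨c0, c1⟩ | ⟨c0, c1⟩ <;>
    rw [a1, b1, c1] at hn
    · simp at hn
    · refine ⟨dg hF 1 (u.val 2)⁻¹ (u.val 2) (by field_simp) * (cyc hF * cyc hF),
        L.mul_mem (hdg _ _ _ _) (L.mul_mem h2 h2), hcol _ ?_ ?_ ?_⟩ <;>
        simp [mat_mul, mat_dg, mat_cyc, Matrix.mul_apply, Fin.sum_univ_three, a0, b0]
    · refine ⟨dg hF 1 (u.val 1) (u.val 1)⁻¹ (by field_simp) * cyc hF,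
        L.mul_mem (hdg _ _ _ _) h2, hcol _ ?_ ?_ ?_⟩ <;>
        simp [mat_mul, mat_dg, mat_cyc, Matrix.mul_apply, Fin.sum_univ_three, a0, c0]
    · exfalso
      rw [zero_add, h11] at hn
      exact zero_ne_one hn
    · refine ⟨dg hF (u.val 0) (u.val 0)⁻¹ 1 (by field_simp), hdg _ _ _ _, hcol _ ?_ ?_ ?_⟩ <;>
        simp [mat_dg, b0, c0]
    · exfalso
      rw [add_zero, h11] at hn
      exact zero_ne_one hn
    · exfalso
      rw [add_zero, h11] at hn
      exact zero_ne_one hn
    · rcases cases_four hF hω (u.val 0 * u.val 1 * u.val 2) with h | h | h | h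
      · exact absurd h (mul_ne_zero (mul_ne_zero a0 b0) c0)
      · refine ⟨dg hF (u.val 0) (u.val 1) (u.val 2) h * fou hF hω,
          L.mul_mem (hdg _ _ _ _) h4, hcol _ ?_ ?_ ?_⟩ <;>
          simp [mat_mul, mat_dg, mat_fou, Matrix.mul_apply, Fin.sum_univ_three]
      · refine ⟨dg hF (u.val 0) (u.val 1) (u.val 2 * (ω * ω)) (by
            rw [← mul_assoc, h]; linear_combination hω3) * fou' hF hω,
          L.mul_mem (hdg _ _ _ _) h5, hcol _ ?_ ?_ ?_⟩ <;>
          simp [mat_mul, mat_dg, mat_fou', Matrix.mul_apply, Fin.sum_univ_three]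
        linear_combination (u.val 2) * hω3
      · refine ⟨dg hF (u.val 0 * ω) (u.val 1) (u.val 2) (by
            linear_combination ω * h + hω3) * (fou' hF hω * fou hF hω),
          L.mul_mem (hdg _ _ _ _) (L.mul_mem h5 h4), hcol _ ?_ ?_ ?_⟩ <;>
          simp [mat_mul, mat_dg, mat_fou', mat_fou, Matrix.mul_apply, Fin.sum_univ_three] <;> grind
  rw [eq_top_iff]
  intro x _
  obtain ⟨l, hl, hlx⟩ := horb (x • e0 2 F 2)
  obtain ⟨k, hk⟩ := exists_emb_of_fix hF (l⁻¹ * x) (by rw [mul_smul, ← hlx, inv_smul_smul])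
  have hx : x = l * emb hF 1 (by omega : 1 + 2 ≤ 2 + 1) k := by rw [hk, mul_inv_cancel_left]
  rw [hx]
  refine L.mul_mem hl ?_
  have hm := mat_emb_one_three hF k
  have hdet := mat_det k
  rw [Matrix.det_fin_two] at hdet
  have hc0 : mat k 0 0 * mat k 0 0 ^ 2 + mat k 1 0 * mat k 1 0 ^ 2 = 1 := by
    have h6 := mat_isom k (Pi.single 0 1) (Pi.single 0 1)
    rw [Matrix.mulVec_single_one, herm_single_left, Pi.single_eq_same, herm_def,
      Fin.sum_univ_two, one_pow, mul_one] at h6
    exact h6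
  have hc1 : mat k 0 1 * mat k 0 1 ^ 2 + mat k 1 1 * mat k 1 1 ^ 2 = 1 := by
    have h6 := mat_isom k (Pi.single 1 1) (Pi.single 1 1)
    rw [Matrix.mulVec_single_one, herm_single_left, Pi.single_eq_same, herm_def,
      Fin.sum_univ_two, one_pow, mul_one] at h6
    exact h6
  have h11 := one_add_one hF
  rcases norm_zero_or_one hF (mat k 0 0) with ⟨a0, a1⟩ | ⟨a0, a1⟩ <;>
  rcases norm_zero_or_one hF (mat k 1 0) with ⟨b0, b1⟩ | ⟨b0, b1⟩ <;>
  rw [a1, b1] at hc0
  · simp at hc0
  · rw [a0, zero_mul, zero_sub] at hdet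
    have h7 : mat k 0 1 ≠ 0 := by
      intro h; rw [h, zero_mul, neg_zero] at hdet; exact zero_ne_one hdet
    rw [norm_two hF h7] at hc1
    have h8 : mat k 1 1 = 0 := by
      have h9 : mat k 1 1 * mat k 1 1 ^ 2 = 0 := by linear_combination hc1
      exact (norm_eq_zero hF).1 h9
    rw [neg_eq hF] at hdet
    have e : emb hF 1 (by omega : 1 + 2 ≤ 2 + 1) k =
        dg hF 1 (mat k 0 1) (mat k 1 0) (by rw [one_mul]; exact hdet) * swp hF := by
      apply mat_inj
      rw [mat_mul, mat_dg, mat_swp]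
      refine hm.trans ?_
      ext i j
      fin_cases i <;> fin_cases j <;> simp [Matrix.mul_apply, Fin.sum_univ_three, a0, h8]
    rw [e]
    exact L.mul_mem (hdg _ _ _ _) h3
  · rw [b0, mul_zero, sub_zero] at hdet
    have h7 : mat k 1 1 ≠ 0 := by
      intro h; rw [h, mul_zero] at hdet; exact zero_ne_one hdet
    rw [norm_two hF h7] at hc1
    have h8 : mat k 0 1 = 0 := by
      have h9 : mat k 0 1 * mat k 0 1 ^ 2 = 0 := by linear_combination hc1
      exact (norm_eq_zero hF).1 h9
    have e : emb hF 1 (by omega : 1 + 2 ≤ 2 + 1) k =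
        dg hF 1 (mat k 0 0) (mat k 1 1) (by rw [one_mul]; exact hdet) := by
      apply mat_inj
      rw [mat_dg]
      refine hm.trans ?_
      ext i j
      fin_cases i <;> fin_cases j <;> simp [b0, h8]
    rw [e]
    exact hdg _ _ _ _
  · exfalso
    rw [h11] at hc0
    exact zero_ne_one hc0

end gens

end Cfsg.Agent.P3711
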