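import Cfsg.Agent.P3711.Two

/-!
# Systems of homomorphisms of `SU 4` over the field with four elements

`Sys.exists_hom` : such a system comes from one homomorphism of `SU N`.
-/

set_option autoImplicit false

namespace Cfsg.Agent.P3711

open Matrix Cfsg Cfsg.Agent.Phan Cfsg.Agent.Phan.Cover Cfsg.Agent.H434
open Cfsg.Agent.LieClassical.HermBasic

variable {F : Type*} [Field F] [Fintype F]

/-- `SU (m+3)` is generated by the `SU 3` of consecutive coordinates. -/
theorem closure_emb_three {q : ℕ} (hF : Fintype.card F = q ^ 2) (m : ℕ) :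
    Subgroup.closure {y : SU (m + 3) F q | ∃ (j : ℕ) (h : j + 3 ≤ m + 3) (x : SU 3 F q),
      emb hF j h x = y} = ⊤ := by
  induction m with
  | zero =>
    rw [eq_top_iff]
    intro x _
    exact Subgroup.subset_closure ⟨0, by omega, x, emb_self hF _ x⟩
  | succ m ih =>
    rw [eq_top_iff, ← closure_eq_top_orth hF m, Subgroup.closure_le]
    rintro _ (⟨x, rfl⟩ | ⟨x, rfl⟩)
    · have hx : x ∈ Subgroup.closure {y : SU (m + 3) F q | ∃ (j : ℕ) (h : j + 3 ≤ m + 3)
          (x : SU 3 F q), emb hF j h x = y} := by rw [ih]; trivial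
      have h1 := Subgroup.mem_map_of_mem
        (emb hF 1 (by omega : 1 + (m + 3) ≤ m + 4) : SU (m + 3) F q →* SU (m + 4) F q) hx
      rw [MonoidHom.map_closure] at h1
      refine Subgroup.closure_mono ?_ h1
      rintro _ ⟨_, ⟨j, hj, x, rfl⟩, rfl⟩
      exact ⟨1 + j, by omega, x, (emb_emb hF _ _ _).symm⟩
    · refine Subgroup.subset_closure ⟨0, by omega, emb hF 0 (by omega : 0 + 2 ≤ 3) x, ?_⟩
      rw [emb_emb]

/-- A system of rank `N - 1`. -/
structure Sys (hF : Fintype.card F = 2 ^ 2) (N : ℕ) {H : Type*} [Group H]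
    (φ : ℕ → (SU 2 F 2 →* H)) (g : ℕ → (SU 3 F 2 →* H)) (Γ : ℕ → (SU 4 F 2 →* H)) : Prop where
  gl : ∀ k, k + 3 ≤ N → ∀ a, g k (emb hF 0 (by omega : 0 + 2 ≤ 3) a) = φ k a
  gr : ∀ k, k + 3 ≤ N → ∀ a, g k (emb hF 1 (by omega : 1 + 2 ≤ 3) a) = φ (k + 1) a
  Γl : ∀ k, k + 4 ≤ N → ∀ x, Γ k (emb hF 0 (by omega : 0 + 3 ≤ 4) x) = g k x
  Γr : ∀ k, k + 4 ≤ N → ∀ x, Γ k (emb hF 1 (by omega : 1 + 3 ≤ 4) x) = g (k + 1) x
  c23 : ∀ i j, i + 2 ≤ j → j + 3 ≤ N → ∀ a x, φ i a * g j x = g j x * φ i a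
  c33 : ∀ i j, i + 3 ≤ j → j + 3 ≤ N → ∀ x y, g i x * g j y = g j y * g i x

/-- The step of the induction, all dimensions. -/
theorem exists_extension_all (hF : Fintype.card F = 2 ^ 2) (n : ℕ) {H : Type*} [Group H]
    (α : SU (n + 4) F 2 →* H) (Γ : SU 4 F 2 →* H)
    (h : StepHyp hF (n + 1) α (Γ.comp (emb hF 0 (by omega : 0 + 3 ≤ 4))))
    (hΓ : ∀ x : SU 3 F 2, Γ (emb hF 1 (by omega : 1 + 3 ≤ 4) x) =
      α (emb hF 0 (by omega : 0 + 3 ≤ n + 4) x))
    (hcc : ∀ (h5 : 2 + 3 ≤ n + 4) (b c : SU 3 F 2), Γ (emb hF 0 (by omega : 0 + 3 ≤ 4) b) *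
      α (emb hF 2 h5 c) = α (emb hF 2 h5 c) * Γ (emb hF 0 (by omega : 0 + 3 ≤ 4) b)) :
    ∃ Φ : SU (n + 5) F 2 →* H, (∀ x : SU (n + 4) F 2, Φ (emb hF 1 (by omega) x) = α x) ∧
      ∀ x : SU 2 F 2, Φ (emb hF 0 (by omega) x) =
        Γ (emb hF 0 (by omega : 0 + 3 ≤ 4) (emb hF 0 (by omega : 0 + 2 ≤ 3) x)) := by
  match n, α, h, hΓ, hcc with
  | 0, α, h, hΓ, hcc => exact exists_extension_five hF α _ h
  | 1, α, h, hΓ, hcc => exact exists_extension_six hF α Γ h hΓ (hcc (by omega))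
  | (m + 2), α, h, hΓ, hcc =>
    exact exists_extension_orth hF (m + 3) (Or.inl (by omega)) α
      (Γ.comp (emb hF 0 (by omega : 0 + 3 ≤ 4))) h.hα h.hc

/-- **Systems come from homomorphisms.** -/
theorem Sys.exists_hom (hF : Fintype.card F = 2 ^ 2) (n : ℕ) {H : Type*} [Group H]
    {φ : ℕ → (SU 2 F 2 →* H)} {g : ℕ → (SU 3 F 2 →* H)} {Γ : ℕ → (SU 4 F 2 →* H)}
    (h : Sys hF (n + 4) φ g Γ) :
    ∃ Φ : SU (n + 4) F 2 →* H, ∀ (k : ℕ) (hk : k + 4 ≤ n + 4) (x : SU 4 F 2),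
      Φ (emb hF k hk x) = Γ k x := by
  induction n generalizing φ g Γ with
  | zero =>
    refine ⟨Γ 0, ?_⟩
    intro k hk x
    obtain rfl : k = 0 := by omega
    rw [emb_self]
  | succ n ih =>
    have h' : Sys hF (n + 4) (fun k => φ (k + 1)) (fun k => g (k + 1)) (fun k => Γ (k + 1)) :=
      ⟨fun k hk a => h.gl (k + 1) (by omega) a, fun k hk a => h.gr (k + 1) (by omega) a,
        fun k hk a => h.Γl (k + 1) (by omega) a, fun k hk a => h.Γr (k + 1) (by omega) a,
        fun i j hij hj a x => h.c23 (i + 1) (j + 1) (by omega) (by omega) a x,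
        fun i j hij hj a x => h.c33 (i + 1) (j + 1) (by omega) (by omega) a x⟩
    obtain ⟨α, hα⟩ := ih h'
    have hαg : ∀ (j : ℕ) (hj : j + 3 ≤ n + 4) (x : SU 3 F 2), α (emb hF j hj x) = g (j + 1) x := by
      intro j hj x
      by_cases hj' : j + 4 ≤ n + 4
      · have e : emb hF j hj x = emb hF j hj' (emb hF 0 (by omega : 0 + 3 ≤ 4) x) := by
          rw [emb_emb]
          exact emb_congr hF _ _ (by omega) x
        rw [e, hα]
        exact h.Γl (j + 1) (by omega) x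
      · obtain ⟨i, rfl⟩ : ∃ i, j = i + 1 := ⟨j - 1, by omega⟩
        have e : emb hF (i + 1) hj x =
            emb hF i (by omega : i + 4 ≤ n + 4) (emb hF 1 (by omega : 1 + 3 ≤ 4) x) := by
          rw [emb_emb]
        rw [e, hα]
        exact h.Γr (i + 1) (by omega) x
    have hαφ : ∀ (j : ℕ) (hj : j + 2 ≤ n + 4) (x : SU 2 F 2), α (emb hF j hj x) = φ (j + 1) x := by
      intro j hj x
      by_cases hj' : j + 3 ≤ n + 4
      · have e : emb hF j hj x = emb hF j hj' (emb hF 0 (by omega : 0 + 2 ≤ 3) x) := by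
          rw [emb_emb]
          exact emb_congr hF _ _ (by omega) x
        rw [e, hαg]
        exact h.gl (j + 1) (by omega) x
      · obtain ⟨i, rfl⟩ : ∃ i, j = i + 1 := ⟨j - 1, by omega⟩
        have e : emb hF (i + 1) hj x =
            emb hF i (by omega : i + 3 ≤ n + 4) (emb hF 1 (by omega : 1 + 2 ≤ 3) x) := by
          rw [emb_emb]
        rw [e, hαg]
        exact h.gr (i + 1) (by omega) x
    have hstep : StepHyp hF (n + 1) α ((Γ 0).comp (emb hF 0 (by omega : 0 + 3 ≤ 4))) := by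
      refine ⟨?_, ?_⟩
      · intro x
        change Γ 0 (emb hF 0 (by omega : 0 + 3 ≤ 4) (emb hF 1 (by omega : 1 + 2 ≤ 3) x)) = _
        rw [h.Γl 0 (by omega), h.gr 0 (by omega), hαφ]
      · intro c a
        change _ * Γ 0 (emb hF 0 (by omega : 0 + 3 ≤ 4) (emb hF 0 (by omega : 0 + 2 ≤ 3) a)) =
          Γ 0 (emb hF 0 (by omega : 0 + 3 ≤ 4) (emb hF 0 (by omega : 0 + 2 ≤ 3) a)) * _
        rw [h.Γl 0 (by omega), h.gl 0 (by omega)]
        have hc : c ∈ Subgroup.closure {y : SU (n + 3) F 2 | ∃ (j : ℕ) (h : j + 3 ≤ n + 3)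
            (x : SU 3 F 2), emb hF j h x = y} := by
          rw [closure_emb_three hF n]; trivial
        have key : ∀ c ∈ Subgroup.closure {y : SU (n + 3) F 2 | ∃ (j : ℕ) (h : j + 3 ≤ n + 3)
            (x : SU 3 F 2), emb hF j h x = y},
            Commute (α (emb hF 1 (by omega : 1 + (n + 3) ≤ n + 4) c)) (φ 0 a) := by
          intro c hc
          induction hc using Subgroup.closure_induction with
          | mem y hy =>
            obtain ⟨j, hj, x, rfl⟩ := hy
            rw [emb_emb, hαg (1 + j) (by omega)]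
            exact (h.c23 0 (1 + j + 1) (by omega) (by omega) a x).symm
          | one => rw [map_one, map_one]; exact Commute.one_left _
          | mul x y _ _ hx hy => rw [map_mul, map_mul]; exact hx.mul_left hy
          | inv x _ hx => rw [map_inv, map_inv]; exact hx.inv_left
        exact key c hc
    obtain ⟨Φ, hΦ1, hΦ2⟩ := exists_extension_all hF n α (Γ 0) hstep (by
      intro x
      rw [h.Γr 0 (by omega), hαg]) (by
      intro h5 b c
      rw [h.Γl 0 (by omega), hαg]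
      exact h.c33 0 3 (by omega) (by omega) b c)
    refine ⟨Φ, ?_⟩
    intro k hk x
    by_cases hk0 : k = 0
    · subst hk0
      have hext : Φ.comp (emb hF 0 (by omega : 0 + 4 ≤ n + 5)) = Γ 0 := by
        refine hom_ext_orth hF 0 ?_ ?_
        · intro y
          change Φ (emb hF 0 (by omega : 0 + 4 ≤ n + 5) (emb hF 1 (by omega : 1 + 3 ≤ 4) y)) =
            Γ 0 (emb hF 1 (by omega : 1 + 3 ≤ 4) y)
          have e : emb hF 0 (by omega : 0 + 4 ≤ n + 5) (emb hF 1 (by omega : 1 + 3 ≤ 4) y) =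
              emb hF 1 (by omega : 1 + (n + 4) ≤ n + 5)
                (emb hF 0 (by omega : 0 + 3 ≤ n + 4) y) := by
            rw [emb_emb, emb_emb]
          rw [e, hΦ1, hαg, h.Γr 0 (by omega)]
        · intro a
          change Φ (emb hF 0 (by omega : 0 + 4 ≤ n + 5) (emb hF 0 (by omega : 0 + 2 ≤ 4) a)) =
            Γ 0 (emb hF 0 (by omega : 0 + 2 ≤ 4) a)
          have e : emb hF 0 (by omega : 0 + 4 ≤ n + 5) (emb hF 0 (by omega : 0 + 2 ≤ 4) a) =
              emb hF 0 (by omega : 0 + 2 ≤ n + 5) a := by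
            rw [emb_emb]
          have e' : emb hF 0 (by omega : 0 + 2 ≤ 4) a =
              emb hF 0 (by omega : 0 + 3 ≤ 4) (emb hF 0 (by omega : 0 + 2 ≤ 3) a) := by
            rw [emb_emb]
          rw [e, hΦ2, e']
      rw [← hext]
      rfl
    · obtain ⟨i, rfl⟩ : ∃ i, k = i + 1 := ⟨k - 1, by omega⟩
      have e : emb hF (i + 1) hk x = emb hF 1 (by omega : 1 + (n + 4) ≤ n + 5)
          (emb hF i (by omega : i + 4 ≤ n + 4) x) := by
        rw [emb_emb]
        exact emb_congr hF _ _ (by omega) x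
      rw [e, hΦ1, hα]

end Cfsg.Agent.P3711
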