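import Cfsg.Agent.P3711.Rig

/-!
# A compatible pair of homomorphisms `SU 3 → SU 4` comes from `SU 4 → SU 4`
-/

set_option autoImplicit false

namespace Cfsg.Agent.P3711

open Matrix Cfsg Cfsg.Agent.Phan Cfsg.Agent.Phan.Cover Cfsg.Agent.H434
open Cfsg.Agent.LieClassical.HermBasic Cfsg.Agent.H433

variable {F : Type*} [Field F] [Fintype F]

theorem eps_one_t2 (hF : Fintype.card F = 2 ^ 2) {ω lam : F} (hω : ω * ω + ω + 1 = 0)
    {τ : F ≃+* F} (hτ : τ ω = lam) :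
    mat (eps hF τ (emb hF 1 (by omega : 1 + 2 ≤ 3) (t2 hF hω))) =
      Matrix.diagonal ![1, lam, lam * lam, 1] := by
  rw [eps, MonoidHom.comp_apply, mat_emb_zero_four, mat_fr_one, mat_emb_one_three, mat_t2]
  ext i j
  fin_cases i <;> fin_cases j <;> simp [hτ]

theorem eps_zero_t2 (hF : Fintype.card F = 2 ^ 2) {ω lam : F} (hω : ω * ω + ω + 1 = 0)
    {τ : F ≃+* F} (hτ : τ ω = lam) :
    mat (eps hF τ (emb hF 0 (by omega : 0 + 2 ≤ 3) (t2 hF hω))) =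
      Matrix.diagonal ![lam, lam * lam, 1, 1] := by
  rw [eps, MonoidHom.comp_apply, mat_emb_zero_four, mat_fr_one, mat_emb_zero_three, mat_t2]
  ext i j
  fin_cases i <;> fin_cases j <;> simp [hτ]

theorem eps_one_wey (hF : Fintype.card F = 2 ^ 2) {τ : F ≃+* F} :
    mat (eps hF τ (emb hF 1 (by omega : 1 + 2 ≤ 3) (wey hF))) =
      !![1, 0, 0, 0; 0, 0, 1, 0; 0, 1, 0, 0; 0, 0, 0, 1] := by
  rw [eps, MonoidHom.comp_apply, mat_emb_zero_four, mat_fr_one, mat_emb_one_three, mat_wey']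
  ext i j
  fin_cases i <;> fin_cases j <;> simp

/-- the second twisted embedding -/
def eps' (hF : Fintype.card F = 2 ^ 2) (τ : F ≃+* F) : SU 3 F 2 →* SU 4 F 2 :=
  (emb hF 1 (by omega : 1 + 3 ≤ 4)).comp (fr hF τ 1 hd_one)

theorem eps_conj (hF : Fintype.card F = 2 ^ 2) (τ : F ≃+* F) (x : SU 3 F 2) :
    eps hF τ x = (cyc4 hF)⁻¹ * eps' hF τ x * cyc4 hF := by
  rw [eps, eps', MonoidHom.comp_apply, MonoidHom.comp_apply, mul_assoc, ← cyc4_conj,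
    inv_mul_cancel_left]

theorem eps'_zero_t2 (hF : Fintype.card F = 2 ^ 2) {ω lam : F} (hω : ω * ω + ω + 1 = 0)
    {τ : F ≃+* F} (hτ : τ ω = lam) :
    mat (eps' hF τ (emb hF 0 (by omega : 0 + 2 ≤ 3) (t2 hF hω))) =
      Matrix.diagonal ![1, lam, lam * lam, 1] := by
  rw [eps', MonoidHom.comp_apply, mat_emb_one_four, mat_fr_one, mat_emb_zero_three, mat_t2]
  ext i j
  fin_cases i <;> fin_cases j <;> simp [hτ]

theorem eps'_zero_wey (hF : Fintype.card F = 2 ^ 2) {τ : F ≃+* F} :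
    mat (eps' hF τ (emb hF 0 (by omega : 0 + 2 ≤ 3) (wey hF))) =
      !![1, 0, 0, 0; 0, 0, 1, 0; 0, 1, 0, 0; 0, 0, 0, 1] := by
  rw [eps', MonoidHom.comp_apply, mat_emb_one_four, mat_fr_one, mat_emb_zero_three, mat_wey']
  ext i j
  fin_cases i <;> fin_cases j <;> simp

theorem eps'_one_wey (hF : Fintype.card F = 2 ^ 2) {τ : F ≃+* F} :
    mat (eps' hF τ (emb hF 1 (by omega : 1 + 2 ≤ 3) (wey hF))) =
      !![1, 0, 0, 0; 0, 1, 0, 0; 0, 0, 0, 1; 0, 0, 1, 0] := by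
  rw [eps', MonoidHom.comp_apply, mat_emb_one_four, mat_fr_one, mat_emb_one_three, mat_wey']
  ext i j
  fin_cases i <;> fin_cases j <;> simp

/-- a diagonal element has entries of norm one -/
theorem diag_norm (hF : Fintype.card F = 2 ^ 2) {n : ℕ} (X : SU n F 2) (d : Fin n → F)
    (hX : mat X = Matrix.diagonal d) (i : Fin n) : d i * d i ^ 2 = 1 := by
  apply norm_two hF
  intro h
  have hdet := mat_det X
  rw [hX, Matrix.det_diagonal, Finset.prod_eq_zero (Finset.mem_univ i) h] at hdet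
  exact zero_ne_one hdet

/-- field automorphisms agreeing on `ω` -/
theorem tau_ext (hF : Fintype.card F = 2 ^ 2) {ω : F} (hω : ω * ω + ω + 1 = 0)
    {τ₀ τ₁ : F ≃+* F} (h : τ₀ ω = τ₁ ω) : τ₀ = τ₁ := by
  ext x
  rcases cases_four hF hω x with rfl | rfl | rfl | rfl
  · simp
  · simp
  · exact h
  · rw [map_mul, map_mul, h]

/-- **A compatible pair extends.** -/
theorem exists_hom_of_pair (hF : Fintype.card F = 2 ^ 2) {ω : F} (hω : ω * ω + ω + 1 = 0)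
    (ρ₀ ρ₁ : SU 3 F 2 →* SU 4 F 2) (hz₀ : ρ₀ (zz hF hω) ≠ 1) (hz₁ : ρ₁ (zz hF hω) ≠ 1)
    (h23 : ∀ y : SU 2 F 2, ρ₀ (emb hF 1 (by omega : 1 + 2 ≤ 3) y) =
      ρ₁ (emb hF 0 (by omega : 0 + 2 ≤ 3) y))
    (hcomm : ∀ x y : SU 2 F 2, Commute (ρ₀ (emb hF 0 (by omega : 0 + 2 ≤ 3) x))
      (ρ₁ (emb hF 1 (by omega : 1 + 2 ≤ 3) y))) :
    ∃ Γ : SU 4 F 2 →* SU 4 F 2,
      (∀ x, Γ (emb hF 0 (by omega : 0 + 3 ≤ 4) x) = ρ₀ x) ∧
      (∀ x, Γ (emb hF 1 (by omega : 1 + 3 ≤ 4) x) = ρ₁ x) := by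
  obtain ⟨g, τ₀, hg⟩ := exists_frame_rep hF hω ρ₀ hz₀
  obtain ⟨h, τ₁, hh⟩ := exists_frame_rep hF hω ρ₁ hz₁
  obtain ⟨k, hk⟩ : ∃ k, k = h * (cyc4 hF)⁻¹ := ⟨_, rfl⟩
  have hk1 : ∀ x, ρ₁ x = k * eps' hF τ₁ x * k⁻¹ := by
    intro x
    rw [hh, eps_conj, hk]
    group
  obtain ⟨X, hX⟩ : ∃ X, X = g⁻¹ * k := ⟨_, rfl⟩
  have hkX : k = g * X := by rw [hX, mul_inv_cancel_left]
  have hroot : ∀ τ : F ≃+* F, τ ω * τ ω + τ ω + 1 = 0 := by
    intro τ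
    rw [← map_mul, ← map_one τ, ← map_add, ← map_add, hω, map_zero]
  have key : ∀ y : SU 2 F 2, eps hF τ₀ (emb hF 1 (by omega : 1 + 2 ≤ 3) y) * X =
      X * eps' hF τ₁ (emb hF 0 (by omega : 0 + 2 ≤ 3) y) := by
    intro y
    have h1 := h23 y
    rw [hg, hk1, hkX] at h1
    have h2 : g * (eps hF τ₀ (emb hF 1 (by omega : 1 + 2 ≤ 3) y) * X) * (g * X)⁻¹ =
        g * (X * eps' hF τ₁ (emb hF 0 (by omega : 0 + 2 ≤ 3) y)) * (g * X)⁻¹ := by
      rw [← mul_assoc g X, ← h1]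
      group
    exact mul_left_cancel (mul_right_cancel h2)
  have keyc : Commute (eps hF τ₀ (emb hF 0 (by omega : 0 + 2 ≤ 3) (t2 hF hω)))
      (X * eps' hF τ₁ (emb hF 1 (by omega : 1 + 2 ≤ 3) (wey hF)) * X⁻¹) := by
    have h1 := hcomm (t2 hF hω) (wey hF)
    rw [hg, hk1, hkX] at h1
    have h2 : g * X * eps' hF τ₁ (emb hF 1 (by omega : 1 + 2 ≤ 3) (wey hF)) * (g * X)⁻¹ =
        g * (X * eps' hF τ₁ (emb hF 1 (by omega : 1 + 2 ≤ 3) (wey hF)) * X⁻¹) * g⁻¹ := by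
      group
    rw [h2] at h1
    exact (SemiconjBy.conj_iff).1 h1
  have kt := congrArg mat (key (t2 hF hω))
  have kw := congrArg mat (key (wey hF))
  have kc := congrArg mat keyc.eq
  rw [mat_mul, mat_mul, eps_one_t2 hF hω rfl, eps'_zero_t2 hF hω rfl] at kt
  rw [mat_mul, mat_mul, eps_one_wey, eps'_zero_wey] at kw
  rw [mat_mul, mat_mul _ (eps hF τ₀ _), mat_mul, mat_mul, eps_zero_t2 hF hω rfl,
    eps'_one_wey] at kc
  obtain ⟨hττ, d0, x, d3, hXd⟩ := transition hF (hroot τ₀) (hroot τ₁) X kt kw kc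
  obtain rfl := tau_ext hF hω hττ
  have hdX := diag_norm hF X _ hXd
  have hd : ∀ i, (![x, x, x, d3] : Fin 4 → F) i * (![x, x, x, d3] : Fin 4 → F) i ^ 2 = 1 := by
    intro i
    fin_cases i
    · exact hdX 1
    · exact hdX 1
    · exact hdX 1
    · exact hdX 3
  have hx0 : x ≠ 0 := ne_zero_of_norm (hdX 1)
  have hd30 : d3 ≠ 0 := ne_zero_of_norm (hdX 3)
  refine ⟨(MulAut.conj g).toMonoidHom.comp (fr hF τ₀ ![x, x, x, d3] hd), ?_, ?_⟩
  · intro y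
    rw [hg]
    change g * _ * g⁻¹ = _
    congr 2
    rw [eps, MonoidHom.comp_apply, fr_emb]
    congr 1
    apply mat_inj
    rw [mat_fr, mat_fr]
    ext i j
    rw [frM_apply, frM_apply]
    fin_cases i <;> fin_cases j <;> simp [sh] <;> rw [mul_comm x, mul_inv_cancel_right₀ hx0]
  · intro y
    rw [hk1, hkX]
    change g * _ * g⁻¹ = _
    have h2 : g * X * eps' hF τ₀ y * (g * X)⁻¹ = g * (X * eps' hF τ₀ y * X⁻¹) * g⁻¹ := by
      group
    rw [h2]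
    congr 2
    rw [conj_eq_fr hF X _ _ hdX hXd, eps', MonoidHom.comp_apply, fr_emb, fr_emb]
    congr 1
    apply mat_inj
    rw [mat_fr, mat_fr, mat_fr]
    ext i j
    rw [frM_apply, frM_apply, frM_apply]
    fin_cases i <;> fin_cases j <;> simp [sh]

end Cfsg.Agent.P3711
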