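import Cfsg.Agent.P3711.Gen

/-!
# Homomorphisms `SU 3 → SU 4` over the field with four elements

`exists_frame_rep` : if the centre is not in the kernel then the homomorphism is conjugate to a twist of the
first embedding.
-/

set_option autoImplicit false

namespace Cfsg.Agent.P3711

open Matrix Cfsg Cfsg.Agent.Phan Cfsg.Agent.Phan.Cover Cfsg.Agent.H434
open Cfsg.Agent.LieClassical.HermBasic

variable {F : Type*} [Field F] [Fintype F]

/-- an eigenvector for a matrix of order three inside an invariant family -/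
theorem exists_eig (hF : Fintype.card F = 2 ^ 2) {ω : F} (hω : ω * ω + ω + 1 = 0) {n : ℕ}
    (A : Matrix (Fin n) (Fin n) F) (hA : A * (A * A) = 1) (P : (Fin n → F) → Prop)
    (hPA : ∀ v, P v → P (A *ᵥ v)) (hPs : ∀ u v, P u → P v → P (u - v))
    (hPc : ∀ (c : F) v, P v → P (c • v)) (v : Fin n → F) (hv : v ≠ 0) (hPv : P v) :
    ∃ w : Fin n → F, w ≠ 0 ∧ P w ∧ ∃ μ : F, μ * μ * μ = 1 ∧ A *ᵥ w = μ • w := by
  have h2 := two_eq_zero hF
  have hA' : ∀ u : Fin n → F, A *ᵥ (A *ᵥ (A *ᵥ u)) = u := by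
    intro u
    rw [Matrix.mulVec_mulVec, Matrix.mulVec_mulVec, Matrix.mul_assoc, hA, Matrix.one_mulVec]
  by_cases h0 : A *ᵥ v - v = 0
  · exact ⟨v, hv, hPv, 1, by ring, by rw [one_smul]; exact sub_eq_zero.1 h0⟩
  set y := A *ᵥ v - v with hy
  have hPy : P y := hPs _ _ (hPA _ hPv) hPv
  have hAy : A *ᵥ (A *ᵥ y) = - (A *ᵥ y) - y := by
    rw [hy]
    simp only [Matrix.mulVec_sub]
    rw [hA']
    abel
  by_cases h1 : A *ᵥ y - ω • y = 0
  · exact ⟨y, h0, hPy, ω, om3' hω, sub_eq_zero.1 h1⟩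
  refine ⟨A *ᵥ y - ω • y, h1, hPs _ _ (hPA _ hPy) (hPc _ _ hPy), ω * ω, ?_, ?_⟩
  · have := om3' hω
    linear_combination (ω * ω * ω + 1) * this
  · rw [Matrix.mulVec_sub, Matrix.mulVec_smul, hAy]
    have e1 : ω * ω = - (1 + ω) := by linear_combination hω
    have e2 : ω * ω * ω = 1 := om3' hω
    rw [smul_sub, smul_smul, e2, one_smul, e1, neg_smul, add_smul, one_smul]
    abel

/-- an element of `SU 4` fixing the first three basis vectors is trivial -/
theorem eq_one_of_fix_three (hF : Fintype.card F = 2 ^ 2) (y : SU 4 F 2)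
    (h0 : y • pe 4 F 2 0 = pe 4 F 2 0) (h1 : y • pe 4 F 2 1 = pe 4 F 2 1)
    (h2 : y • pe 4 F 2 2 = pe 4 F 2 2) : y = 1 := by
  have hc : ∀ {m : ℕ} (k : SU m F 2) (i j : Fin m),
      emb hF 1 (by omega : 1 + m ≤ m + 1) k • pe (m + 1) F 2 i.succ = pe (m + 1) F 2 j.succ →
      k • pe m F 2 i = pe m F 2 j := by
    intro m k i j h
    apply Pt.ext'
    funext l
    have h3 := congrFun (congrArg Pt.val h) l.succ
    rw [smul_val, emb_one_mulVec, Fin.cons_succ] at h3
    have h4 : (fun j : Fin m => (pe (m + 1) F 2 i.succ).val j.succ) = (pe m F 2 i).val := by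
      funext j
      change (Pi.single i.succ 1 : Fin (m + 1) → F) j.succ = (Pi.single i 1 : Fin m → F) j
      rw [Pi.single_apply, Pi.single_apply]
      simp
    rw [h4] at h3
    rw [smul_val, h3]
    change (Pi.single j.succ 1 : Fin (m + 1) → F) l.succ = (Pi.single j 1 : Fin m → F) l
    rw [Pi.single_apply, Pi.single_apply]
    simp
  obtain ⟨k, rfl⟩ := exists_emb_of_fix hF y h0
  have h1' := hc k 0 0 h1
  have h2' := hc k 1 1 h2
  obtain ⟨k', rfl⟩ := exists_emb_of_fix hF k h1'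
  have h2'' := hc k' 0 0 h2'
  obtain ⟨k'', rfl⟩ := exists_emb_of_fix hF k' h2''
  have h3 : k'' = 1 := by
    apply mat_inj
    have h4 := mat_det k''
    rw [Matrix.det_fin_one] at h4
    ext i j
    fin_cases i; fin_cases j
    rw [mat_one]
    exact h4
  rw [h3, map_one, map_one, map_one]

/-- frames from orthonormal triples -/
theorem exists_frame_triple {q : ℕ} (hF : Fintype.card F = q ^ 2) (v0 v1 v2 : Pt 4 F q)
    (h10 : orth v1 v0) (h20 : orth v2 v0) (h21 : orth v2 v1) :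
    ∃ g : SU 4 F q, g • pe 4 F q 0 = v0 ∧ g • pe 4 F q 1 = v1 ∧ g • pe 4 F q 2 = v2 := by
  obtain ⟨g1, hg1⟩ := exists_su_smul hF (e0 3 F q) v0
  obtain ⟨x1, hx1⟩ := exists_lift0 hF g1 v1 (by rw [hg1]; exact h10)
  obtain ⟨x2, hx2⟩ := exists_lift0 hF g1 v2 (by rw [hg1]; exact h20)
  have htl : ∀ x : Pt 3 F q, tl (mat g1⁻¹ *ᵥ (lift0 hF g1 x).val) = x.val := by
    intro x
    change tl (mat g1⁻¹ *ᵥ (mat g1 *ᵥ Fin.cons 0 x.val)) = x.val
    rw [Matrix.mulVec_mulVec, mat_inv_mul, Matrix.one_mulVec, tl_cons]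
  have hx21 : orth x2 x1 := by
    rw [orth, ← hx1, ← hx2, herm_lift0, htl] at h21
    exact h21
  obtain ⟨g2, hg2⟩ := exists_su_smul hF (e0 2 F q) x1
  obtain ⟨x3, hx3⟩ := exists_lift0 hF g2 x2 (by rw [hg2]; exact hx21)
  obtain ⟨g3, hg3⟩ := exists_su_smul hF (e0 1 F q) x3
  have hlift : ∀ {m : ℕ} (g : SU (m + 1) F q) (k : SU m F q) (x : Pt m F q),
      (g * emb hF 1 (by omega : 1 + m ≤ m + 1) k) • lift0 hF 1 x = lift0 hF g (k • x) := by
    intro m g k x
    apply Pt.ext'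
    change mat (g * emb hF 1 (by omega : 1 + m ≤ m + 1) k) *ᵥ
      (mat (1 : SU (m + 1) F q) *ᵥ Fin.cons 0 x.val) = mat g *ᵥ Fin.cons 0 (mat k *ᵥ x.val)
    rw [mat_one, Matrix.one_mulVec, mat_mul, ← Matrix.mulVec_mulVec, emb_one_cons]
  have hpe : ∀ {m : ℕ} (i : Fin m), pe (m + 1) F q i.succ = lift0 hF 1 (pe m F q i) := by
    intro m i
    apply Pt.ext'
    change (Pi.single i.succ 1 : Fin (m + 1) → F) =
      mat (1 : SU (m + 1) F q) *ᵥ Fin.cons 0 (Pi.single i 1)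
    rw [mat_one, Matrix.one_mulVec]
    funext l
    refine Fin.cases ?_ (fun l => ?_) l
    · rw [Fin.cons_zero, Pi.single_eq_of_ne (Fin.succ_ne_zero i).symm]
    · rw [Fin.cons_succ, Pi.single_apply, Pi.single_apply]
      simp
  refine ⟨g1 * emb hF 1 (by omega : 1 + 3 ≤ 3 + 1)
    (g2 * emb hF 1 (by omega : 1 + 2 ≤ 2 + 1) g3), ?_, ?_, ?_⟩
  · rw [← hg1, mul_smul]
    change g1 • emb hF 1 (by omega : 1 + 3 ≤ 3 + 1) _ • e0 3 F q = _
    rw [emb_one_e0]
  · change _ • pe 4 F q (0 : Fin 3).succ = _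
    rw [hpe, hlift, ← hx1, ← hg2, mul_smul]
    change lift0 hF g1 (g2 • emb hF 1 (by omega : 1 + 2 ≤ 2 + 1) _ • e0 2 F q) = _
    rw [emb_one_e0]
  · change _ • pe 4 F q (1 : Fin 3).succ = _
    rw [hpe, hlift, ← hx2]
    congr 1
    change _ • pe 3 F q (0 : Fin 2).succ = _
    rw [hpe, hlift, ← hx3, ← hg3]
    rfl

theorem indep_three (hF : Fintype.card F = 2 ^ 2) {lam : F} (hl : lam * lam + lam + 1 = 0)
    (A : Matrix (Fin 4) (Fin 4) F) (v : Fin 3 → (Fin 4 → F)) (h0 : ∀ i, v i ≠ 0)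
    (h : ∀ i, A *ᵥ v i = (![1, lam, lam * lam] : Fin 3 → F) i • v i) :
    LinearIndependent F v := by
  have h2 := two_eq_zero hF
  have hl1 : lam ≠ 1 := by
    rintro rfl
    have : (3 : F) = 1 := by linear_combination h2
    have h3 : (1 : F) * 1 + 1 + 1 = 3 := by ring
    rw [h3, this] at hl
    exact one_ne_zero hl
  have hl0 : lam ≠ 0 := by
    rintro rfl
    simp at hl
  refine Module.End.eigenvectors_linearIndependent' (Matrix.mulVecLin A)
    (![1, lam, lam * lam] : Fin 3 → F) ?_ v ?_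
  · intro i j hij
    fin_cases i <;> fin_cases j <;> simp at hij <;> first | rfl | (exfalso; grind)
  · intro i
    refine ⟨?_, h0 i⟩
    rw [Module.End.mem_eigenspace_iff]
    exact h i

theorem gram_ne_zero (hF : Fintype.card F = 2 ^ 2) {lam : F} (hl : lam * lam + lam + 1 = 0)
    (A : Matrix (Fin 4) (Fin 4) F) (v : Fin 3 → (Fin 4 → F)) (h0 : ∀ i, v i ≠ 0)
    (h : ∀ i, A *ᵥ v i = (![1, lam, lam * lam] : Fin 3 → F) i • v i) :
    ¬ ∀ i j, hermForm 4 F 2 (v i) (v j) = 0 := by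
  intro hg
  set M : Matrix (Fin 3) (Fin 4) F := Matrix.of v with hM
  set N : Matrix (Fin 3) (Fin 4) F := M.map (fun x => x * x) with hN
  have hMN : M * Nᵀ = 0 := by
    ext i j
    rw [Matrix.mul_apply]
    have := hg i j
    rw [herm_def] at this
    rw [Matrix.zero_apply, ← this]
    refine Finset.sum_congr rfl fun k _ => ?_
    rw [Matrix.transpose_apply, hN, Matrix.map_apply, hM, Matrix.of_apply, Matrix.of_apply, pow_two]
  have hr1 : M.rank = 3 := by
    have := (indep_three hF hl A v h0 h)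
    have h3 : LinearIndependent F M.row := this
    simpa using h3.rank_matrix
  have h2 := two_eq_zero hF
  have hr2 : N.rank = 3 := by
    have hl' : (lam * lam) * (lam * lam) + lam * lam + 1 = 0 := by grind
    have h3 : LinearIndependent F N.row := by
      refine indep_three hF hl' (A.map (fun x => x * x)) (fun i k => v i k * v i k) ?_ ?_
      · intro i hi
        apply h0 i
        funext k
        exact mul_self_eq_zero.1 (congrFun hi k)
      · intro i
        funext k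
        have h5 := congrFun (h i) k
        change ∑ l, (A k l * A k l) * (v i l * v i l) = _
        have h6 : ∑ l, (A k l * A k l) * (v i l * v i l) = (∑ l, A k l * v i l) ^ 2 := by
          rw [sum_pow_q hF]
          refine Finset.sum_congr rfl fun l _ => ?_
          ring
        rw [h6]
        change (A *ᵥ v i) k ^ 2 = _
        rw [h5]
        fin_cases i <;> simp [pow_two] <;> ring
    simpa using h3.rank_matrix
  have := Matrix.rank_add_rank_le_card_of_mul_eq_zero hMN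
  rw [Matrix.rank_transpose, hr1, hr2, Fintype.card_fin] at this
  omega

/-- **Eigenvector frames.** -/
theorem exists_eigen_frame (hF : Fintype.card F = 2 ^ 2) {ω : F} (hω : ω * ω + ω + 1 = 0)
    (ρ : SU 3 F 2 →* SU 4 F 2) (hz : ρ (zz hF hω) ≠ 1) :
    ∃ (lam : F) (v0 v1 v2 : Pt 4 F 2), lam * lam + lam + 1 = 0 ∧ orth v1 v0 ∧ orth v2 v0 ∧
      orth v2 v1 ∧ mat (ρ (zz hF hω)) *ᵥ v0.val = lam • v0.val ∧
      mat (ρ (tt hF hω)) *ᵥ v0.val = v0.val ∧
      ρ (cyc hF) • v0 = v1 ∧ ρ (cyc hF) • v1 = v2 ∧ ρ (cyc hF) • v2 = v0 := by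
  have h2 := two_eq_zero hF
  set Z := ρ (zz hF hω) with hZ
  set T := ρ (tt hF hω) with hT
  set C := ρ (cyc hF) with hC
  have hω3 : ω * ω * ω = 1 := om3' hω
  have z3 : zz hF hω * (zz hF hω * zz hF hω) = 1 := by
    apply mat_inj
    simp only [mat_mul, mat_dg, mat_one]
    ext i j
    fin_cases i <;> fin_cases j <;> simp [Matrix.mul_apply, Fin.sum_univ_three] <;> grind
  have t3 : tt hF hω * (tt hF hω * tt hF hω) = 1 := by
    apply mat_inj
    simp only [mat_mul, mat_dg, mat_one]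
    ext i j
    fin_cases i <;> fin_cases j <;> simp [Matrix.mul_apply, Fin.sum_univ_three] <;> grind
  have c3 : cyc hF * (cyc hF * cyc hF) = 1 := by
    apply mat_inj
    simp only [mat_mul, mat_cyc, mat_one]
    ext i j
    fin_cases i <;> fin_cases j <;> simp [Matrix.mul_apply, Fin.sum_univ_three]
  have Z3 : mat Z * (mat Z * mat Z) = 1 := by
    have := congrArg ρ z3
    rw [map_mul, map_mul, map_one] at this
    exact congrArg mat this
  have T3 : mat T * (mat T * mat T) = 1 := by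
    have := congrArg ρ t3
    rw [map_mul, map_mul, map_one] at this
    exact congrArg mat this
  have C3 : C * (C * C) = 1 := by
    have := congrArg ρ c3
    rwa [map_mul, map_mul, map_one] at this
  have ZT : mat Z * mat T = mat T * mat Z := by
    have := congrArg ρ (zz_central hF hω (tt hF hω))
    rw [map_mul, map_mul] at this
    exact congrArg mat this
  have ZC : mat Z * mat C = mat C * mat Z := by
    have := congrArg ρ (zz_central hF hω (cyc hF))
    rw [map_mul, map_mul] at this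
    exact congrArg mat this
  have TC : mat T * mat C = mat C * (mat Z * mat T) := by
    have := congrArg ρ (rel_cyc hF hω)
    rw [map_mul, map_mul, map_mul] at this
    exact congrArg mat this
  -- an eigenvector of `Z`
  obtain ⟨u, hu⟩ : ∃ u : Fin 4 → F, mat Z *ᵥ u ≠ u := by
    by_contra hcon
    push Not at hcon
    apply hz
    apply mat_inj
    rw [mat_one]
    apply Matrix.ext_of_mulVec_single
    intro j
    rw [hcon, Matrix.one_mulVec]
  have hy0 : mat Z *ᵥ u - u ≠ 0 := sub_ne_zero.2 hu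
  obtain ⟨w, hw0, hwP, lam, hlam3, hlam⟩ := exists_eig hF hω (mat Z) Z3
    (fun x => mat Z *ᵥ (mat Z *ᵥ x) + mat Z *ᵥ x + x = 0) (by
      intro v hv
      have := congrArg (fun x => mat Z *ᵥ x) hv
      simpa only [Matrix.mulVec_add, Matrix.mulVec_zero] using this) (by
      intro u v hu hv
      simp only [Matrix.mulVec_sub]
      rw [← sub_eq_zero] at hu hv
      calc _ = (mat Z *ᵥ (mat Z *ᵥ u) + mat Z *ᵥ u + u) - (mat Z *ᵥ (mat Z *ᵥ v) + mat Z *ᵥ v + v) := by
            abel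
        _ = 0 := by rw [sub_zero] at hu hv; rw [hu, hv, sub_zero]) (by
      intro c v hv
      simp only [Matrix.mulVec_smul, ← smul_add]
      rw [hv, smul_zero]) (mat Z *ᵥ u - u) hy0 (by
      have h3 : mat Z *ᵥ (mat Z *ᵥ (mat Z *ᵥ u)) = u := by
        rw [Matrix.mulVec_mulVec, Matrix.mulVec_mulVec, Matrix.mul_assoc, Z3, Matrix.one_mulVec]
      simp only [Matrix.mulVec_sub]
      rw [h3]
      abel)
  have hl : lam * lam + lam + 1 = 0 := by
    have h3 : (lam * lam + lam + 1) • w = 0 := by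
      rw [← hwP]
      simp only [hlam, Matrix.mulVec_smul, smul_smul, add_smul, one_smul]
    exact (smul_eq_zero.1 h3).resolve_right hw0
  -- an eigenvector of `T`
  obtain ⟨w', hw'0, hw'P, μ, hμ3, hμ⟩ := exists_eig hF hω (mat T) T3
    (fun x => mat Z *ᵥ x = lam • x) (by
      intro v hv
      rw [Matrix.mulVec_mulVec, ZT, ← Matrix.mulVec_mulVec, hv, Matrix.mulVec_smul]) (by
      intro u v hu hv
      rw [Matrix.mulVec_sub, hu, hv, smul_sub]) (by
      intro c v hv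
      rw [Matrix.mulVec_smul, hv, smul_comm]) w hw0 hlam
  -- shifting by `C`
  have hshift : ∀ (x : Fin 4 → F) (ν : F), mat Z *ᵥ x = lam • x → mat T *ᵥ x = ν • x →
      mat Z *ᵥ (mat C *ᵥ x) = lam • (mat C *ᵥ x) ∧
      mat T *ᵥ (mat C *ᵥ x) = (lam * ν) • (mat C *ᵥ x) := by
    intro x ν hx1 hx2
    constructor
    · rw [Matrix.mulVec_mulVec, ZC, ← Matrix.mulVec_mulVec, hx1, Matrix.mulVec_smul]
    · rw [Matrix.mulVec_mulVec, TC, ← Matrix.mulVec_mulVec, ← Matrix.mulVec_mulVec, hx2,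
        Matrix.mulVec_smul, Matrix.mulVec_smul, hx1, Matrix.mulVec_smul, smul_smul, mul_comm]
  have hC0 : ∀ x : Fin 4 → F, x ≠ 0 → mat C *ᵥ x ≠ 0 := by
    intro x hx h
    apply hx
    have := congrArg (fun y => mat C⁻¹ *ᵥ y) h
    simpa only [Matrix.mulVec_mulVec, mat_inv_mul, Matrix.one_mulVec, Matrix.mulVec_zero] using this
  obtain ⟨x0, hx0, hx1, hx2⟩ : ∃ x0 : Fin 4 → F, x0 ≠ 0 ∧ mat Z *ᵥ x0 = lam • x0 ∧
      mat T *ᵥ x0 = x0 := by
    have s1 := hshift w' μ hw'P hμ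
    have s2 := hshift _ _ s1.1 s1.2
    rcases cases_four hF hl μ with h | h | h | h
    · exfalso
      rw [h] at hμ3
      simp at hμ3
    · exact ⟨w', hw'0, hw'P, by rw [hμ, h, one_smul]⟩
    · refine ⟨_, hC0 _ (hC0 _ hw'0), s2.1, ?_⟩
      rw [s2.2, h]
      have : lam * (lam * lam) = 1 := by rw [← mul_assoc]; exact om3' hl
      rw [this, one_smul]
    · refine ⟨_, hC0 _ hw'0, s1.1, ?_⟩
      rw [s1.2, h]
      have : lam * (lam * lam) = 1 := by rw [← mul_assoc]; exact om3' hl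
      rw [this, one_smul]
  set x1 := mat C *ᵥ x0 with hx1d
  set x2 := mat C *ᵥ x1 with hx2d
  have hcx2 : mat C *ᵥ x2 = x0 := by
    rw [hx2d, hx1d, Matrix.mulVec_mulVec, Matrix.mulVec_mulVec]
    have := congrArg mat C3
    rw [mat_mul, mat_mul, mat_one] at this
    rw [Matrix.mul_assoc, this, Matrix.one_mulVec]
  have e0' := hshift x0 1 hx1 (by rw [one_smul]; exact hx2)
  have e1' := hshift _ _ e0'.1 e0'.2
  rw [mul_one] at e0' e1'
  have hne : (1 : F) - lam ^ 2 ≠ 0 := by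
    intro h
    have h5 : lam * lam = 1 := by rw [← pow_two]; exact (sub_eq_zero.1 h).symm
    have h6 : lam * lam * lam = 1 := om3' hl
    rw [h5, one_mul] at h6
    rw [h6] at hl
    have : (1 : F) * 1 + 1 + 1 = 1 := by linear_combination h2
    rw [this] at hl
    exact one_ne_zero hl
  have o01 : hermForm 4 F 2 x0 x1 = 0 := by
    have h5 := mat_isom T x0 x1
    rw [hx2, e0'.2, herm_smul_right] at h5
    have h6 : (1 - lam ^ 2) * hermForm 4 F 2 x0 x1 = 0 := by linear_combination -h5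
    exact (mul_eq_zero.1 h6).resolve_left hne
  have o12 : hermForm 4 F 2 x1 x2 = 0 := by
    rw [hx2d, hx1d, mat_isom, ← hx1d]; exact o01
  have o20 : hermForm 4 F 2 x2 x0 = 0 := by
    rw [← hcx2, hx2d, mat_isom, ← hx2d]
    exact o12
  have n1 : hermForm 4 F 2 x1 x1 = hermForm 4 F 2 x0 x0 := by rw [hx1d, mat_isom]
  have n2 : hermForm 4 F 2 x2 x2 = hermForm 4 F 2 x0 x0 := by rw [hx2d, mat_isom, n1]
  have hη : hermForm 4 F 2 x0 x0 ≠ 0 := by
    intro h0
    refine gram_ne_zero hF hl (mat T) ![x0, x1, x2] ?_ ?_ ?_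
    · intro i
      fin_cases i
      · exact hx0
      · exact hC0 _ hx0
      · exact hC0 _ (hC0 _ hx0)
    · intro i
      fin_cases i
      · change mat T *ᵥ x0 = (1 : F) • x0
        rw [one_smul]; exact hx2
      · exact e0'.2
      · exact e1'.2
    · intro i j
      fin_cases i <;> fin_cases j
      · exact h0
      · exact o01
      · exact herm_eq_zero_swap hF o20
      · exact herm_eq_zero_swap hF o01
      · exact n1.trans h0
      · exact o12
      · exact o20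
      · exact herm_eq_zero_swap hF o12
      · exact n2.trans h0
  have hη1 : hermForm 4 F 2 x0 x0 = 1 := by
    have h5 := herm_self_pow hF x0
    rw [pow_two] at h5
    exact mul_left_cancel₀ hη (by rw [h5, mul_one])
  refine ⟨lam, ⟨x0, hη1⟩, ⟨x1, n1.trans hη1⟩, ⟨x2, n2.trans hη1⟩, hl,
    herm_eq_zero_swap hF o01, o20, herm_eq_zero_swap hF o12, hx1, hx2, ?_, ?_, ?_⟩
  · exact Pt.ext' rfl
  · exact Pt.ext' rfl
  · exact Pt.ext' hcx2

/-- the matrix of the first embedding -/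
theorem mat_emb_zero_four {q : ℕ} (hF : Fintype.card F = q ^ 2) (x : SU 3 F q) :
    mat (emb hF 0 (by omega : 0 + 3 ≤ 4) x) =
      !![mat x 0 0, mat x 0 1, mat x 0 2, 0; mat x 1 0, mat x 1 1, mat x 1 2, 0;
        mat x 2 0, mat x 2 1, mat x 2 2, 0; 0, 0, 0, 1] := by
  have hi := sh_injective 0 (by omega : 0 + 3 ≤ 4)
  have h0 : ∀ i j : Fin 3, mat (emb hF 0 (by omega : 0 + 3 ≤ 4) x)
      (sh 0 (by omega : 0 + 3 ≤ 4) i) (sh 0 (by omega : 0 + 3 ≤ 4) j) = mat x i j :=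
    fun i j => extM_apply hi _ i j
  have hn : ∀ i : Fin 3, (3 : Fin 4) ≠ sh 0 (by omega : 0 + 3 ≤ 4) i := by
    intro i hi
    have := congrArg Fin.val hi
    rw [sh_val] at this
    simp at this
    omega
  have hr : ∀ a : Fin 4, mat (emb hF 0 (by omega : 0 + 3 ≤ 4) x) a 3 =
      (1 : Matrix (Fin 4) (Fin 4) F) a 3 := fun a => extM_apply_right hi hn _ a
  have hl : ∀ a : Fin 4, mat (emb hF 0 (by omega : 0 + 3 ≤ 4) x) 3 a =
      (1 : Matrix (Fin 4) (Fin 4) F) 3 a := fun a => extM_apply_left hn _ a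
  ext a b
  fin_cases a <;> fin_cases b
  · exact h0 0 0
  · exact h0 0 1
  · exact h0 0 2
  · exact (hr 0).trans (by simp)
  · exact h0 1 0
  · exact h0 1 1
  · exact h0 1 2
  · exact (hr 1).trans (by simp)
  · exact h0 2 0
  · exact h0 2 1
  · exact h0 2 2
  · exact (hr 2).trans (by simp)
  · exact (hl 0).trans (by simp)
  · exact (hl 1).trans (by simp)
  · exact (hl 2).trans (by simp)
  · exact (hr 3).trans (by simp)

theorem mat_emb_one_four {q : ℕ} (hF : Fintype.card F = q ^ 2) (x : SU 3 F q) :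
    mat (emb hF 1 (by omega : 1 + 3 ≤ 4) x) =
      !![1, 0, 0, 0; 0, mat x 0 0, mat x 0 1, mat x 0 2; 0, mat x 1 0, mat x 1 1, mat x 1 2;
        0, mat x 2 0, mat x 2 1, mat x 2 2] := by
  have hi := sh_injective 1 (by omega : 1 + 3 ≤ 4)
  have h0 : ∀ i j : Fin 3, mat (emb hF 1 (by omega : 1 + 3 ≤ 4) x)
      (sh 1 (by omega : 1 + 3 ≤ 4) i) (sh 1 (by omega : 1 + 3 ≤ 4) j) = mat x i j :=
    fun i j => extM_apply hi _ i j
  have hn : ∀ i : Fin 3, (0 : Fin 4) ≠ sh 1 (by omega : 1 + 3 ≤ 4) i := by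
    intro i hi
    have := congrArg Fin.val hi
    rw [sh_val] at this
    simp at this
    omega
  have hr : ∀ a : Fin 4, mat (emb hF 1 (by omega : 1 + 3 ≤ 4) x) a 0 =
      (1 : Matrix (Fin 4) (Fin 4) F) a 0 := fun a => extM_apply_right hi hn _ a
  have hl : ∀ a : Fin 4, mat (emb hF 1 (by omega : 1 + 3 ≤ 4) x) 0 a =
      (1 : Matrix (Fin 4) (Fin 4) F) 0 a := fun a => extM_apply_left hn _ a
  ext a b
  fin_cases a <;> fin_cases b
  · exact (hr 0).trans (by simp)
  · exact (hl 1).trans (by simp)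
  · exact (hl 2).trans (by simp)
  · exact (hl 3).trans (by simp)
  · exact (hr 1).trans (by simp)
  · exact h0 0 0
  · exact h0 0 1
  · exact h0 0 2
  · exact (hr 2).trans (by simp)
  · exact h0 1 0
  · exact h0 1 1
  · exact h0 1 2
  · exact (hr 3).trans (by simp)
  · exact h0 2 0
  · exact h0 2 1
  · exact h0 2 2

/-- norm condition for the trivial frame -/
theorem hd_one {n : ℕ} : ∀ i : Fin n, (1 : Fin n → F) i * (1 : Fin n → F) i ^ 2 = 1 := by
  intro i
  simp

/-- a field automorphism with prescribed value at `ω` -/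
theorem exists_tau (hF : Fintype.card F = 2 ^ 2) {ω lam : F} (hω : ω * ω + ω + 1 = 0)
    (hl : lam * lam + lam + 1 = 0) : ∃ τ : F ≃+* F, τ ω = lam := by
  rcases cases_four hF hω lam with h | h | h | h
  · rw [h] at hl; simp at hl
  · exfalso
    rw [h] at hl
    have h2 := two_eq_zero hF
    have : (1 : F) * 1 + 1 + 1 = 1 := by linear_combination h2
    rw [this] at hl
    exact one_ne_zero hl
  · exact ⟨RingEquiv.refl F, h.symm⟩
  · refine ⟨RingEquiv.ofBijective (Cfsg.Agent.LieClassical.HermBasic.conj hF) ⟨(Cfsg.Agent.LieClassical.HermBasic.conj hF).injective,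
      Finite.injective_iff_surjective.1 (Cfsg.Agent.LieClassical.HermBasic.conj hF).injective⟩, ?_⟩
    change ω ^ 2 = lam
    rw [h, pow_two]

/-- the elements of `SU 4` commuting with the extraspecial group -/
theorem centralizer_extraspecial (hF : Fintype.card F = 2 ^ 2) {lam : F}
    (hl : lam * lam + lam + 1 = 0) (Y : SU 4 F 2)
    (h1 : mat Y * !![lam, 0, 0, 0; 0, lam, 0, 0; 0, 0, lam, 0; 0, 0, 0, 1] =
      !![lam, 0, 0, 0; 0, lam, 0, 0; 0, 0, lam, 0; 0, 0, 0, 1] * mat Y)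
    (h2 : mat Y * !![1, 0, 0, 0; 0, lam, 0, 0; 0, 0, lam * lam, 0; 0, 0, 0, 1] =
      !![1, 0, 0, 0; 0, lam, 0, 0; 0, 0, lam * lam, 0; 0, 0, 0, 1] * mat Y)
    (h3 : mat Y * !![0, 0, 1, 0; 1, 0, 0, 0; 0, 1, 0, 0; 0, 0, 0, 1] =
      !![0, 0, 1, 0; 1, 0, 0, 0; 0, 1, 0, 0; 0, 0, 0, 1] * mat Y) :
    ∃ (θ : F) (h : θ * θ * θ = 1), Y = emb hF 0 (by omega : 0 + 3 ≤ 4) (dg hF θ θ θ h) := by
  have h20 := two_eq_zero hF
  have hl1 : lam - 1 ≠ 0 := by
    intro h
    have := sub_eq_zero.1 h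
    subst this
    have : (1 : F) * 1 + 1 + 1 = 1 := by linear_combination h20
    rw [this] at hl
    exact one_ne_zero hl
  have hl0 : lam ≠ 0 := by rintro rfl; simp at hl
  have hlc : lam * lam - 1 ≠ 0 := by
    intro h
    apply hl1
    have : lam * (lam - 1) = 0 := by linear_combination (lam - 1) * hl - (lam - 1) * h - (lam - 1) * h20
    exact (mul_eq_zero.1 this).resolve_left hl0
  have hll : lam * lam - lam ≠ 0 := by
    intro h
    apply hl1
    have : lam * (lam - 1) = 0 := by linear_combination h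
    exact (mul_eq_zero.1 this).resolve_left hl0
  have e1 := fun i j => congrFun (congrFun h1 i) j
  have e2 := fun i j => congrFun (congrFun h2 i) j
  have e3 := fun i j => congrFun (congrFun h3 i) j
  have a03 := e1 0 3
  have a13 := e1 1 3
  have a23 := e1 2 3
  have a30 := e1 3 0
  have a31 := e1 3 1
  have a32 := e1 3 2
  have b01 := e2 0 1
  have b02 := e2 0 2
  have b10 := e2 1 0
  have b12 := e2 1 2
  have b20 := e2 2 0
  have b21 := e2 2 1
  have c10 := e3 1 0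
  have c21 := e3 2 1
  simp [Matrix.mul_apply, Fin.sum_univ_four] at a03 a13 a23 a30 a31 a32 b01 b02 b10 b12 b20 b21 c10 c21
  have z03 : mat Y 0 3 = 0 := by grind
  have z13 : mat Y 1 3 = 0 := by grind
  have z23 : mat Y 2 3 = 0 := by grind
  have z30 : mat Y 3 0 = 0 := by grind
  have z31 : mat Y 3 1 = 0 := by grind
  have z32 : mat Y 3 2 = 0 := by grind
  have z01 : mat Y 0 1 = 0 := by grind
  have z02 : mat Y 0 2 = 0 := by grind
  have z10 : mat Y 1 0 = 0 := by grind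
  have z12 : mat Y 1 2 = 0 := by grind
  have z20 : mat Y 2 0 = 0 := by grind
  have z21 : mat Y 2 1 = 0 := by grind
  have d1 : mat Y 1 1 = mat Y 0 0 := by grind
  have d2 : mat Y 2 2 = mat Y 0 0 := by grind
  have hY : mat Y = !![mat Y 0 0, 0, 0, 0; 0, mat Y 0 0, 0, 0; 0, 0, mat Y 0 0, 0;
      0, 0, 0, mat Y 3 3] := by
    ext i j
    fin_cases i <;> fin_cases j <;>
      simp [z03, z13, z23, z30, z31, z32, z01, z02, z10, z12, z20, z21, d1, d2]
  have hdet := mat_det Y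
  rw [hY] at hdet
  simp [Matrix.det_succ_row_zero, Fin.sum_univ_succ] at hdet
  have hθ0 : mat Y 0 0 ≠ 0 := by
    intro h
    rw [h, zero_mul] at hdet
    exact zero_ne_one hdet
  have hθ := norm_two hF hθ0
  have hθ' : mat Y 0 0 * mat Y 0 0 * mat Y 0 0 = 1 := by rw [← hθ]; ring
  have hκ : mat Y 3 3 = 1 := by
    have : mat Y 0 0 * mat Y 0 0 * mat Y 0 0 * mat Y 3 3 = 1 := by rw [← hdet]; ring
    rwa [hθ', one_mul] at this
  refine ⟨mat Y 0 0, hθ', ?_⟩
  apply mat_inj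
  rw [mat_emb_zero_four, mat_dg]
  refine hY.trans ?_
  rw [hκ]
  ext i j
  fin_cases i <;> fin_cases j <;> simp

theorem mat_fr_one (hF : Fintype.card F = 2 ^ 2) {n : ℕ} (τ : F ≃+* F) (x : SU n F 2) :
    mat (fr hF τ 1 hd_one x) = (mat x).map τ := by
  rw [mat_fr]
  ext i j
  rw [frM_apply, Pi.one_apply, Pi.one_apply, inv_one, mul_one, one_mul, Matrix.map_apply]

/-- the standard twisted embedding -/
def eps (hF : Fintype.card F = 2 ^ 2) (τ : F ≃+* F) : SU 3 F 2 →* SU 4 F 2 :=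
  (emb hF 0 (by omega : 0 + 3 ≤ 4)).comp (fr hF τ 1 hd_one)

theorem eps_injective (hF : Fintype.card F = 2 ^ 2) (τ : F ≃+* F) :
    Function.Injective (eps hF τ) := by
  intro x y h
  rw [eps, MonoidHom.comp_apply, MonoidHom.comp_apply] at h
  have h1 : fr hF τ 1 hd_one x = fr hF τ 1 hd_one y := emb_injective hF _ _ h
  exact fr_injective hF τ 1 hd_one h1

theorem eps_zz (hF : Fintype.card F = 2 ^ 2) {ω lam : F} (hω : ω * ω + ω + 1 = 0)
    {τ : F ≃+* F} (hτ : τ ω = lam) : mat (eps hF τ (zz hF hω)) =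
      !![lam, 0, 0, 0; 0, lam, 0, 0; 0, 0, lam, 0; 0, 0, 0, 1] := by
  rw [eps, MonoidHom.comp_apply, mat_emb_zero_four, mat_fr_one, mat_dg]
  ext i j
  fin_cases i <;> fin_cases j <;> simp [hτ]

theorem eps_tt (hF : Fintype.card F = 2 ^ 2) {ω lam : F} (hω : ω * ω + ω + 1 = 0)
    {τ : F ≃+* F} (hτ : τ ω = lam) : mat (eps hF τ (tt hF hω)) =
      !![1, 0, 0, 0; 0, lam, 0, 0; 0, 0, lam * lam, 0; 0, 0, 0, 1] := by
  rw [eps, MonoidHom.comp_apply, mat_emb_zero_four, mat_fr_one, mat_dg]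
  ext i j
  fin_cases i <;> fin_cases j <;> simp [hτ]

theorem eps_cyc (hF : Fintype.card F = 2 ^ 2) {τ : F ≃+* F} : mat (eps hF τ (cyc hF)) =
      !![0, 0, 1, 0; 1, 0, 0, 0; 0, 1, 0, 0; 0, 0, 0, 1] := by
  rw [eps, MonoidHom.comp_apply, mat_emb_zero_four, mat_fr_one, mat_cyc]
  ext i j
  fin_cases i <;> fin_cases j <;> simp

/-- the basis vectors -/
abbrev bv (i : Fin 4) : Fin 4 → F := Pi.single i 1

/-- two elements of `SU 4` with the same first three columns -/
theorem eq_of_cols (hF : Fintype.card F = 2 ^ 2) (x y : SU 4 F 2)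
    (h : ∀ i : Fin 4, i ≠ 3 → mat x *ᵥ bv i = mat y *ᵥ bv i) : x = y := by
  have hc : ∀ i : Fin 4, i ≠ 3 → x • pe 4 F 2 i = y • pe 4 F 2 i := by
    intro i hi
    apply Pt.ext'
    exact h i hi
  have h3 := eq_one_of_fix_three hF (y⁻¹ * x)
    (by rw [mul_smul, hc 0 (by decide), inv_smul_smul])
    (by rw [mul_smul, hc 1 (by decide), inv_smul_smul])
    (by rw [mul_smul, hc 2 (by decide), inv_smul_smul])
  rw [inv_mul_eq_one] at h3
  exact h3.symm

/-- the data of a homomorphism in standard position -/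
structure StdPos (hF : Fintype.card F = 2 ^ 2) {ω : F} (hω : ω * ω + ω + 1 = 0) (lam : F)
    (ρ : SU 3 F 2 →* SU 4 F 2) : Prop where
  z0 : mat (ρ (zz hF hω)) *ᵥ bv 0 = lam • bv 0
  t0 : mat (ρ (tt hF hω)) *ᵥ bv 0 = bv 0
  c0 : mat (ρ (cyc hF)) *ᵥ bv 0 = bv 1
  c1 : mat (ρ (cyc hF)) *ᵥ bv 1 = bv 2
  c2 : mat (ρ (cyc hF)) *ᵥ bv 2 = bv 0

section std

variable {hF : Fintype.card F = 2 ^ 2} {ω lam : F} {hω : ω * ω + ω + 1 = 0}
  {ρ : SU 3 F 2 →* SU 4 F 2} {τ : F ≃+* F}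

theorem StdPos.eq_cyc (h : StdPos hF hω lam ρ) : ρ (cyc hF) = eps hF τ (cyc hF) := by
  apply eq_of_cols hF
  intro i hi
  rw [eps_cyc]
  fin_cases i
  · refine h.c0.trans ?_
    funext j
    rw [Matrix.mulVec_single_one]
    fin_cases j <;> simp
  · refine h.c1.trans ?_
    funext j
    rw [Matrix.mulVec_single_one]
    fin_cases j <;> simp
  · refine h.c2.trans ?_
    funext j
    rw [Matrix.mulVec_single_one]
    fin_cases j <;> simp
  · exact absurd rfl hi

theorem StdPos.zc (_h : StdPos hF hω lam ρ) (v : Fin 4 → F) :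
    mat (ρ (zz hF hω)) *ᵥ (mat (ρ (cyc hF)) *ᵥ v) =
      mat (ρ (cyc hF)) *ᵥ (mat (ρ (zz hF hω)) *ᵥ v) := by
  rw [Matrix.mulVec_mulVec, Matrix.mulVec_mulVec, ← mat_mul, ← mat_mul, ← map_mul, ← map_mul,
    zz_central]

theorem StdPos.tc (_h : StdPos hF hω lam ρ) (v : Fin 4 → F) :
    mat (ρ (tt hF hω)) *ᵥ (mat (ρ (cyc hF)) *ᵥ v) =
      mat (ρ (cyc hF)) *ᵥ (mat (ρ (zz hF hω)) *ᵥ (mat (ρ (tt hF hω)) *ᵥ v)) := by
  rw [Matrix.mulVec_mulVec, Matrix.mulVec_mulVec, Matrix.mulVec_mulVec, ← mat_mul, ← mat_mul,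
    ← mat_mul, ← map_mul, ← map_mul, ← map_mul, rel_cyc, mul_assoc]

theorem StdPos.z1 (h : StdPos hF hω lam ρ) : mat (ρ (zz hF hω)) *ᵥ bv 1 = lam • bv 1 := by
  rw [← h.c0, h.zc, h.z0, Matrix.mulVec_smul]

theorem StdPos.z2 (h : StdPos hF hω lam ρ) : mat (ρ (zz hF hω)) *ᵥ bv 2 = lam • bv 2 := by
  rw [← h.c1, h.zc, h.z1, Matrix.mulVec_smul]

theorem StdPos.t1 (h : StdPos hF hω lam ρ) : mat (ρ (tt hF hω)) *ᵥ bv 1 = lam • bv 1 := by
  rw [← h.c0, h.tc, h.t0, h.z0, Matrix.mulVec_smul]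

theorem StdPos.t2 (h : StdPos hF hω lam ρ) : mat (ρ (tt hF hω)) *ᵥ bv 2 = (lam * lam) • bv 2 := by
  rw [← h.c1, h.tc, h.t1, Matrix.mulVec_smul, h.z1, Matrix.mulVec_smul, Matrix.mulVec_smul,
    smul_smul]

theorem StdPos.eq_zz (h : StdPos hF hω lam ρ) (hτ : τ ω = lam) :
    ρ (zz hF hω) = eps hF τ (zz hF hω) := by
  apply eq_of_cols hF
  intro i hi
  rw [eps_zz hF hω hτ]
  fin_cases i
  · refine h.z0.trans ?_
    funext j
    rw [Matrix.mulVec_single_one]
    fin_cases j <;> simp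
  · refine h.z1.trans ?_
    funext j
    rw [Matrix.mulVec_single_one]
    fin_cases j <;> simp
  · refine h.z2.trans ?_
    funext j
    rw [Matrix.mulVec_single_one]
    fin_cases j <;> simp
  · exact absurd rfl hi

theorem StdPos.eq_tt (h : StdPos hF hω lam ρ) (hτ : τ ω = lam) :
    ρ (tt hF hω) = eps hF τ (tt hF hω) := by
  apply eq_of_cols hF
  intro i hi
  rw [eps_tt hF hω hτ]
  fin_cases i
  · refine h.t0.trans ?_
    funext j
    rw [Matrix.mulVec_single_one]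
    fin_cases j <;> simp
  · refine h.t1.trans ?_
    funext j
    rw [Matrix.mulVec_single_one]
    fin_cases j <;> simp
  · refine h.t2.trans ?_
    funext j
    rw [Matrix.mulVec_single_one]
    fin_cases j <;> simp
  · exact absurd rfl hi

/-- elements normalizing the extraspecial group, of order dividing four -/
theorem StdPos.eq_of_norm (h : StdPos hF hω lam ρ) (hl : lam * lam + lam + 1 = 0)
    (hτ : τ ω = lam) (x t' c' : SU 3 F 2) (ht' : ρ t' = eps hF τ t') (hc' : ρ c' = eps hF τ c')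
    (hxt : x * tt hF hω = t' * x) (hxc : x * cyc hF = c' * x) (hx4 : x ^ 4 = 1) :
    ρ x = eps hF τ x := by
  set Y := (eps hF τ x)⁻¹ * ρ x with hY
  have key : ∀ e e' : SU 3 F 2, ρ e = eps hF τ e → ρ e' = eps hF τ e' → x * e = e' * x →
      Y * eps hF τ e = eps hF τ e * Y := by
    intro e e' he he' hxe
    have h1 : ρ x * eps hF τ e = eps hF τ e' * ρ x := by
      rw [← he, ← he', ← map_mul, ← map_mul, hxe]
    have h2 : eps hF τ x * eps hF τ e = eps hF τ e' * eps hF τ x := by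
      rw [← map_mul, ← map_mul, hxe]
    rw [hY, mul_assoc, h1, ← mul_assoc, ← mul_assoc]
    congr 1
    rw [inv_mul_eq_iff_eq_mul, ← mul_assoc, h2, mul_inv_cancel_right]
  have k1 := congrArg mat (key _ _ (h.eq_zz hτ) (h.eq_zz hτ) (zz_central hF hω x).symm)
  have k2 := congrArg mat (key _ _ (h.eq_tt hτ) ht' hxt)
  have k3 := congrArg mat (key _ _ h.eq_cyc hc' hxc)
  rw [mat_mul Y, mat_mul _ Y, eps_zz hF hω hτ] at k1
  rw [mat_mul Y, mat_mul _ Y, eps_tt hF hω hτ] at k2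
  rw [mat_mul Y, mat_mul _ Y, eps_cyc] at k3
  obtain ⟨θ, hθ, hYθ⟩ := centralizer_extraspecial hF hl Y k1 k2 k3
  -- the central element
  have hθ' : τ.symm θ * τ.symm θ * τ.symm θ = 1 := by
    rw [← map_mul, ← map_mul, hθ, map_one]
  set w := dg hF (τ.symm θ) (τ.symm θ) (τ.symm θ) hθ' with hw
  have hYw : Y = eps hF τ w := by
    rw [hYθ, eps, MonoidHom.comp_apply]
    congr 1
    apply mat_inj
    rw [mat_fr_one, mat_dg, mat_dg]
    ext i j
    fin_cases i <;> fin_cases j <;> simp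
  have hwc : ∀ y : SU 3 F 2, Commute y w := by
    intro y
    apply mat_inj
    simp only [mat_mul, hw, mat_dg]
    ext i j
    fin_cases i <;> fin_cases j <;> simp [Matrix.mul_apply, Fin.sum_univ_three] <;> ring
  have hw3 : w ^ 3 = 1 := by
    have : w ^ 3 = w * w * w := by rw [pow_succ, pow_two]
    rw [this]
    apply mat_inj
    simp only [mat_mul, hw, mat_dg, mat_one]
    ext i j
    fin_cases i <;> fin_cases j <;> simp [Matrix.mul_apply, Fin.sum_univ_three, hθ']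
  have hρx : ρ x = eps hF τ (x * w) := by
    rw [map_mul, ← hYw, hY, mul_inv_cancel_left]
  have h5 : eps hF τ (w ^ 4) = 1 := by
    have h6 : ρ (x ^ 4) = 1 := by rw [hx4, map_one]
    rw [map_pow, hρx, ← map_pow, (hwc x).mul_pow, hx4, one_mul] at h6
    exact h6
  have h6 : w ^ 4 = 1 := eps_injective hF τ (by rw [h5, map_one])
  have h7 : w = 1 := by
    rw [pow_succ, hw3, one_mul] at h6
    exact h6
  rw [hρx, h7, mul_one]

/-- **Standard position implies standard.** -/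
theorem StdPos.eq (h : StdPos hF hω lam ρ) (hl : lam * lam + lam + 1 = 0)
    (hτ : τ ω = lam) : ρ = eps hF τ := by
  have htop := eq_top_of_gens hF hω (MonoidHom.eqLocus ρ (eps hF τ)) (h.eq_tt hτ) h.eq_cyc
    (h.eq_of_norm hl hτ (swp hF) _ _ (by rw [map_mul, map_mul, h.eq_tt hτ])
      (by rw [map_mul, map_mul, h.eq_cyc]) (rel_swp1 hF hω) (rel_swp2 hF) (swp_four hF))
    (h.eq_of_norm hl hτ (fou hF hω) _ _ (by rw [map_mul, map_mul, h.eq_cyc])
      (h.eq_tt hτ) (rel_fou1 hF hω) (rel_fou2 hF hω) (fou_four hF hω))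
    (h.eq_of_norm hl hτ (fou' hF hω) _ _
      (by simp only [map_mul]; rw [h.eq_tt hτ, h.eq_cyc])
      (by simp only [map_mul]; rw [h.eq_tt hτ, h.eq_cyc])
      (rel_fou1' hF hω) (rel_fou2' hF hω) (fou'_four hF hω))
  ext1 x
  have : x ∈ MonoidHom.eqLocus ρ (eps hF τ) := by rw [htop]; trivial
  exact this

end std

/-- **Homomorphisms `SU 3 → SU 4`.** -/
theorem exists_frame_rep (hF : Fintype.card F = 2 ^ 2) {ω : F} (hω : ω * ω + ω + 1 = 0)
    (ρ : SU 3 F 2 →* SU 4 F 2) (hz : ρ (zz hF hω) ≠ 1) :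
    ∃ (g : SU 4 F 2) (τ : F ≃+* F), ∀ x, ρ x = g * eps hF τ x * g⁻¹ := by
  obtain ⟨lam, v0, v1, v2, hl, o10, o20, o21, hzv, htv, c0, c1, c2⟩ :=
    exists_eigen_frame hF hω ρ hz
  obtain ⟨τ, hτ⟩ := exists_tau hF hω hl
  obtain ⟨g, g0, g1, g2⟩ := exists_frame_triple hF v0 v1 v2 o10 o20 o21
  have g0' : mat g *ᵥ bv 0 = v0.val := congrArg Pt.val g0
  have g1' : mat g *ᵥ bv 1 = v1.val := congrArg Pt.val g1
  have g2' : mat g *ᵥ bv 2 = v2.val := congrArg Pt.val g2
  have c0' : mat (ρ (cyc hF)) *ᵥ v0.val = v1.val := congrArg Pt.val c0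
  have c1' : mat (ρ (cyc hF)) *ᵥ v1.val = v2.val := congrArg Pt.val c1
  have c2' : mat (ρ (cyc hF)) *ᵥ v2.val = v0.val := congrArg Pt.val c2
  set ρ' : SU 3 F 2 →* SU 4 F 2 := (MulAut.conj g⁻¹).toMonoidHom.comp ρ with hρ'
  have hρ'a : ∀ x, ρ' x = g⁻¹ * ρ x * g := by
    intro x
    change MulAut.conj g⁻¹ (ρ x) = _
    rw [MulAut.conj_apply, inv_inv]
  have hρv : ∀ (x : SU 3 F 2) (p r : Fin 4 → F), mat (ρ x) *ᵥ (mat g *ᵥ p) = mat g *ᵥ r →
      mat (ρ' x) *ᵥ p = r := by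
    intro x p r h
    rw [hρ'a, mat_mul, mat_mul, ← Matrix.mulVec_mulVec, ← Matrix.mulVec_mulVec, h,
      Matrix.mulVec_mulVec, mat_inv_mul, Matrix.one_mulVec]
  have hstd : StdPos hF hω lam ρ' := by
    refine ⟨hρv _ _ _ ?_, hρv _ _ _ ?_, hρv _ _ _ ?_, hρv _ _ _ ?_, hρv _ _ _ ?_⟩
    · rw [g0', hzv, Matrix.mulVec_smul, g0']
    · rw [g0', htv]
    · rw [g0', c0', g1']
    · rw [g1', c1', g2']
    · rw [g2', c2', g0']
  refine ⟨g, τ, ?_⟩
  intro x
  rw [← hstd.eq hl hτ, hρ'a]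
  group

end Cfsg.Agent.P3711
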