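import Cfsg.Agent.P3711.Rep
import Cfsg.Agent.H433.WeakPhan

/-!
# Pairs of homomorphisms `SU 3 → SU 4` over the field with four elements

`exists_hom_of_pair` : a compatible pair comes from an endomorphism of `SU 4`.
-/

set_option autoImplicit false

namespace Cfsg.Agent.P3711

open Matrix Cfsg Cfsg.Agent.Phan Cfsg.Agent.Phan.Cover Cfsg.Agent.H434
open Cfsg.Agent.LieClassical.HermBasic

variable {F : Type*} [Field F] [Fintype F]

theorem mk_isom_four (hF : Fintype.card F = 2 ^ 2) (A : Matrix (Fin 4) (Fin 4) F)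
    (h : Aᵀ * A.map (fun x => x * x) = 1) (u v : Fin 4 → F) :
    hermForm 4 F 2 (A *ᵥ u) (A *ᵥ v) = hermForm 4 F 2 u v := by
  revert u v
  rw [Cfsg.Agent.LieClassical.GUOrder.mul_map_eq_one_iff hF, ← h]
  congr 1
  ext i j
  rw [Matrix.map_apply, Matrix.map_apply, Cfsg.Agent.LieClassical.GUOrder.frob_apply, pow_two]

/-- the cyclic permutation in dimension four -/
def cyc4 (hF : Fintype.card F = 2 ^ 2) : SU 4 F 2 :=
  mk !![0, 0, 0, 1; 1, 0, 0, 0; 0, 1, 0, 0; 0, 0, 1, 0] (by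
    have := neg_eq hF 1
    simp [Matrix.det_succ_row_zero, Fin.sum_univ_succ, Fin.succAbove, this]) (by
    apply mk_isom_four hF
    ext i j
    fin_cases i <;> fin_cases j <;> simp [Matrix.mul_apply, Fin.sum_univ_four])

theorem mat_cyc4 (hF : Fintype.card F = 2 ^ 2) : mat (cyc4 hF) =
    !![0, 0, 0, 1; 1, 0, 0, 0; 0, 1, 0, 0; 0, 0, 1, 0] := rfl

theorem cyc4_conj (hF : Fintype.card F = 2 ^ 2) (x : SU 3 F 2) :
    cyc4 hF * emb hF 0 (by omega : 0 + 3 ≤ 4) x = emb hF 1 (by omega : 1 + 3 ≤ 4) x * cyc4 hF := by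
  apply mat_inj
  rw [mat_mul, mat_mul, mat_emb_zero_four, mat_emb_one_four, mat_cyc4]
  ext i j
  fin_cases i <;> fin_cases j <;> simp [Matrix.mul_apply, Fin.sum_univ_four]

/-- the torus element of `SU 2` -/
def t2 (hF : Fintype.card F = 2 ^ 2) {ω : F} (hω : ω * ω + ω + 1 = 0) : SU 2 F 2 :=
  tor hF ω (by rw [pow_two, ← mul_assoc]; exact om3' hω)

theorem mat_t2 (hF : Fintype.card F = 2 ^ 2) {ω : F} (hω : ω * ω + ω + 1 = 0) :
    mat (t2 hF hω) = !![ω, 0; 0, ω * ω] := by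
  rw [t2, mat_tor]
  ext i j
  fin_cases i <;> fin_cases j <;> simp [pow_two]

theorem mat_wey' (hF : Fintype.card F = 2 ^ 2) : mat (wey hF) = !![0, 1; 1, 0] := by
  rw [mat_wey]
  have := neg_eq hF 1
  ext i j
  fin_cases i <;> fin_cases j <;> simp [this]

theorem eig_zero {a b x : F} (hab : a ≠ b) (h : a * x = x * b) : x = 0 := by
  have : (a - b) * x = 0 := by linear_combination h
  rcases mul_eq_zero.1 this with h | h
  · exact absurd (sub_eq_zero.1 h) hab
  · exact h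

theorem transition_scalar (hF : Fintype.card F = 2 ^ 2) {l₀ l₁ : F} (h₀ : l₀ * l₀ + l₀ + 1 = 0)
    (h₁ : l₁ * l₁ + l₁ + 1 = 0) (X : Matrix (Fin 4) (Fin 4) F) (c : F)
    (t : ∀ i j, (![1, l₀, l₀ * l₀, 1] : Fin 4 → F) i * X i j =
      X i j * (![1, l₁, l₁ * l₁, 1] : Fin 4 → F) j)
    (s11 : X 2 1 = X 1 2) (s12 : X 2 2 = X 1 1)
    (hcol : ∀ i j, X 0 i * X 0 j ^ 2 + X 1 i * X 1 j ^ 2 +
      X 2 i * X 2 j ^ 2 + X 3 i * X 3 j ^ 2 = (1 : Matrix (Fin 4) (Fin 4) F) i j)
    (hm : ∀ i, (![l₀, l₀ * l₀, 1, 1] : Fin 4 → F) i * (X i 2 + X i 3) = c * (X i 2 + X i 3)) :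
    l₀ = l₁ ∧ ∃ d0 x d3 : F, X = Matrix.diagonal ![d0, x, x, d3] := by
  have h20 := two_eq_zero hF
  have ne1 : ∀ {l : F}, l * l + l + 1 = 0 → l ≠ 1 := by
    rintro l h rfl
    have : (1 : F) * 1 + 1 + 1 = 1 := by linear_combination h20
    rw [this] at h
    exact one_ne_zero h
  have ne2 : ∀ {l : F}, l * l + l + 1 = 0 → l * l ≠ 1 := by
    intro l h h'
    have : l = 0 := by linear_combination h - h' - h20
    subst this
    simp at h
  have ne3 : ∀ {l : F}, l * l + l + 1 = 0 → l * l ≠ l := by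
    intro l h h'
    have : (1 : F) = 0 := by linear_combination h - h' - l * h20
    exact one_ne_zero this
  have t01 := t 0 1
  have t02 := t 0 2
  have t10 := t 1 0
  have t13 := t 1 3
  have t20 := t 2 0
  have t23 := t 2 3
  have t31 := t 3 1
  have t32 := t 3 2
  have t11 := t 1 1
  have t12 := t 1 2
  have t21 := t 2 1
  have t22 := t 2 2
  simp only [Matrix.cons_val] at t01 t02 t10 t13 t20 t23 t31 t32 t11 t12 t21 t22
  have z01 : X 0 1 = 0 := eig_zero (ne1 h₁).symm t01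
  have z02 : X 0 2 = 0 := eig_zero (ne2 h₁).symm t02
  have z10 : X 1 0 = 0 := eig_zero (ne1 h₀) t10
  have z13 : X 1 3 = 0 := eig_zero (ne1 h₀) t13
  have z20 : X 2 0 = 0 := eig_zero (ne2 h₀) t20
  have z23 : X 2 3 = 0 := eig_zero (ne2 h₀) t23
  have z31 : X 3 1 = 0 := eig_zero (ne1 h₁).symm t31
  have z32 : X 3 2 = 0 := eig_zero (ne2 h₁).symm t32
  have m0 := hm 0
  have m1 := hm 1
  have m2 := hm 2
  have m3 := hm 3
  simp only [Matrix.cons_val, z02, z13, z23, z32, zero_add, add_zero, one_mul] at m0 m1 m2 m3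
  have c22 := hcol 2 2
  have c33 := hcol 3 3
  have c03 := hcol 0 3
  rw [Matrix.one_apply_eq, z02, z32] at c22
  rw [Matrix.one_apply_eq, z13, z23] at c33
  rw [Matrix.one_apply_ne (by decide), z10, z20] at c03
  by_cases hll : l₀ = l₁
  · refine ⟨hll, ?_⟩
    subst hll
    have z12 : X 1 2 = 0 := eig_zero (ne3 h₀).symm t12
    have z21 : X 2 1 = 0 := eig_zero (ne3 h₀) t21
    rw [z12] at c22
    have hx : X 2 2 ≠ 0 := by
      intro h
      rw [h] at c22
      simp at c22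
    have hc1 : c = 1 := by
      have : (c - 1) * X 2 2 = 0 := by linear_combination -m2
      rcases mul_eq_zero.1 this with h | h
      · exact sub_eq_zero.1 h
      · exact absurd h hx
    subst hc1
    have z03 : X 0 3 = 0 := eig_zero (ne1 h₀) (by rw [m0]; ring)
    rw [z03] at c33 c03
    have hx3 : X 3 3 ≠ 0 := by
      intro h
      rw [h] at c33
      simp at c33
    have z30 : X 3 0 = 0 := by
      have : X 3 0 * X 3 3 ^ 2 = 0 := by linear_combination c03
      rcases mul_eq_zero.1 this with h | h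
      · exact h
      · exact absurd h (pow_ne_zero 2 hx3)
    refine ⟨X 0 0, X 1 1, X 3 3, ?_⟩
    ext i j
    fin_cases i <;> fin_cases j <;>
      simp [z01, z02, z03, z10, z12, z13, z20, z21, z23, z30, z31, z32, s12]
  · exfalso
    -- the two roots
    have hl : l₁ = l₀ * l₀ := by
      have : (l₀ - l₁) * (l₀ + l₁ + 1) = 0 := by linear_combination h₀ - h₁
      rcases mul_eq_zero.1 this with h | h
      · exact absurd (sub_eq_zero.1 h) hll
      · linear_combination h - h₀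
    have z22 : X 2 2 = 0 := by
      refine eig_zero ?_ t22
      intro h
      apply hll
      linear_combination h₀ - h₁ - h
    rw [z22] at c22
    have hx : X 1 2 ≠ 0 := by
      intro h
      rw [h] at c22
      simp at c22
    have hc1 : c = l₀ * l₀ := by
      have : (c - l₀ * l₀) * X 1 2 = 0 := by linear_combination -m1
      rcases mul_eq_zero.1 this with h | h
      · exact sub_eq_zero.1 h
      · exact absurd h hx
    subst hc1
    have z03 : X 0 3 = 0 := eig_zero (ne3 h₀).symm (by rw [m0]; ring)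
    have z33 : X 3 3 = 0 := eig_zero (ne2 h₀) (by rw [mul_one]; exact m3.symm)
    rw [z03, z33] at c33
    simp at c33

/-- The algebra of the transition matrix. -/
theorem transition (hF : Fintype.card F = 2 ^ 2) {l₀ l₁ : F} (h₀ : l₀ * l₀ + l₀ + 1 = 0)
    (h₁ : l₁ * l₁ + l₁ + 1 = 0) (X : SU 4 F 2)
    (ht : Matrix.diagonal ![1, l₀, l₀ * l₀, 1] * mat X =
      mat X * Matrix.diagonal ![1, l₁, l₁ * l₁, 1])
    (hs : !![1, 0, 0, 0; 0, 0, 1, 0; 0, 1, 0, 0; 0, 0, 0, 1] * mat X =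
      mat X * !![1, 0, 0, 0; 0, 0, 1, 0; 0, 1, 0, 0; 0, 0, 0, 1])
    (hc : Matrix.diagonal ![l₀, l₀ * l₀, 1, 1] *
        (mat X * !![1, 0, 0, 0; 0, 1, 0, 0; 0, 0, 0, 1; 0, 0, 1, 0] * mat X⁻¹) =
      (mat X * !![1, 0, 0, 0; 0, 1, 0, 0; 0, 0, 0, 1; 0, 0, 1, 0] * mat X⁻¹) *
        Matrix.diagonal ![l₀, l₀ * l₀, 1, 1]) :
    l₀ = l₁ ∧ ∃ d0 x d3 : F, mat X = Matrix.diagonal ![d0, x, x, d3] := by
  have h20 := two_eq_zero hF
  -- the eigenvector
  set m : Fin 4 → F := fun i => mat X i 2 + mat X i 3 with hm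
  have hmX : m = mat X *ᵥ (![0, 0, 1, 1] : Fin 4 → F) := by
    funext i
    simp [hm, Matrix.mulVec, dotProduct, Fin.sum_univ_four]
  obtain ⟨c, hcm⟩ : ∃ c : F, Matrix.diagonal ![l₀, l₀ * l₀, 1, 1] *ᵥ m = c • m := by
    set S : Matrix (Fin 4) (Fin 4) F := !![1, 0, 0, 0; 0, 1, 0, 0; 0, 0, 0, 1; 0, 0, 1, 0] with hS
    set D : Matrix (Fin 4) (Fin 4) F := Matrix.diagonal ![l₀, l₀ * l₀, 1, 1]
      with hD
    -- `N u = X S X⁻¹ u - u` is a multiple of `m`
    have hN : ∀ u : Fin 4 → F, (mat X * S * mat X⁻¹) *ᵥ u - u =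
        ((mat X⁻¹ *ᵥ u) 2 + (mat X⁻¹ *ᵥ u) 3) • m := by
      intro u
      set w := mat X⁻¹ *ᵥ u with hw
      have hu : u = mat X *ᵥ w := by
        rw [hw, Matrix.mulVec_mulVec, mat_mul_inv, Matrix.one_mulVec]
      rw [← Matrix.mulVec_mulVec, ← Matrix.mulVec_mulVec, ← hw, hmX]
      conv_lhs => rw [hu]
      rw [← Matrix.mulVec_sub, ← Matrix.mulVec_smul]
      congr 1
      have hneg := neg_eq hF
      funext i
      fin_cases i
      · simp [hS, Matrix.mulVec, dotProduct, Fin.sum_univ_four]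
      · simp [hS, Matrix.mulVec, dotProduct, Fin.sum_univ_four]
      · simp [hS, Matrix.mulVec, dotProduct, Fin.sum_univ_four]
        linear_combination (-w 2) * h20
      · simp [hS, Matrix.mulVec, dotProduct, Fin.sum_univ_four]
        linear_combination (-w 3) * h20
    -- `m = N (X e₂)`
    have hm2 : (mat X * S * mat X⁻¹) *ᵥ (mat X *ᵥ bv 2) - mat X *ᵥ bv 2 = m := by
      rw [hN, Matrix.mulVec_mulVec, mat_inv_mul, Matrix.one_mulVec]
      simp
    refine ⟨(mat X⁻¹ *ᵥ (D *ᵥ (mat X *ᵥ bv 2))) 2 + (mat X⁻¹ *ᵥ (D *ᵥ (mat X *ᵥ bv 2))) 3, ?_⟩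
    rw [← hN]
    conv_lhs => rw [← hm2]
    rw [Matrix.mulVec_sub, Matrix.mulVec_mulVec, hc, ← Matrix.mulVec_mulVec]
  refine transition_scalar hF h₀ h₁ (mat X) c ?_ ?_ ?_ ?_ ?_
  · intro i j
    have := congrFun (congrFun ht i) j
    rwa [Matrix.diagonal_mul, Matrix.mul_diagonal] at this
  · have := congrFun (congrFun hs 1) 1
    simpa [Matrix.mul_apply, Fin.sum_univ_four] using this
  · have := congrFun (congrFun hs 1) 2
    simpa [Matrix.mul_apply, Fin.sum_univ_four] using this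
  · intro i j
    have h6 := mat_isom X (bv i) (bv j)
    rw [Matrix.mulVec_single_one, Matrix.mulVec_single_one, herm_single_left, one_mul, herm_def,
      Fin.sum_univ_four] at h6
    rw [Matrix.one_apply]
    refine h6.trans ?_
    by_cases h : i = j
    · subst h
      simp
    · rw [if_neg h]
      simp [bv, Pi.single_apply, h]
  · intro i
    have := congrFun hcm i
    rw [Matrix.mulVec_diagonal] at this
    exact this

end Cfsg.Agent.P3711
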