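import Cfsg.Agent.H434.Orth

/-!
# The inductive step through the orthogonality graph, with the agreement of lifts as a hypothesis

`exists_extension_of_same` : dimension at least five, every `q ≥ 2`.
-/

set_option autoImplicit false

namespace Cfsg.Agent.P3711

open Matrix Cfsg Cfsg.Agent.Phan Cfsg.Agent.Phan.Cover Cfsg.Agent.H434
open Cfsg.Agent.LieClassical.HermBasic

section Cover

variable {M H Ω K A : Type*} [Group M] [Group H] [Group K] [Group A] [MulAction M Ω]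
variable {C : Ctx M H Ω K A}

theorem same_symm {w u u' : Ω} (h : C.Hyp) (hS : Cover2.Same C w u u')
    (hD' : C.adj u w) : Cover2.Same C w u' u := by
  intro x y y' hx hy hy' ey ey' exy
  obtain ⟨z, hz, hz'⟩ := h.exists_lift y' (v := w) (by rw [hy']; exact hD')
  have h1 := hS z y' y hz hy' hy ey' ey hz'
  obtain ⟨k, hk⟩ := h.lift_uniq h1 exy (by rw [hz, hx])
  rw [hk]
  have : y'⁻¹ * (z * C.kh k) = (y'⁻¹ * z) * C.kh k := by group
  rw [this]
  exact Ctx.E_right _ hz'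

/-- if `w` is a neighbour of the base point, all lifts agree -/
theorem same_of_adj_base (h : C.Hyp)
    (htri : ∀ u v w : Ω, C.adj u v → C.adj u w → C.adj v w → C.Tri u v w) {w u u' : Ω}
    (hpw : C.adj C.p w) (hu : C.adj C.p u) (huw : C.adj u w) (hu' : C.adj C.p u')
    (hu'w : C.adj u' w) : Cover2.Same C w u u' := by
  intro x y y' hx hy hy' ey ey' exy
  have hp : C.p = (1 : M × H).1 • C.p := by rw [Prod.fst_one, one_smul]
  have e1 : C.E ((1 : M × H)⁻¹ * x) := by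
    refine h.close (x := y) ?_ (by rw [mul_one]; exact h.E_inv ey) exy
    rw [← hp, hy, hx]
    exact htri _ _ _ (h.symm hu) huw hpw
  refine h.close (x := 1) ?_ (by rwa [inv_one, one_mul]) e1
  rw [← hp, hy', hx]
  exact htri _ _ _ hu' hpw hu'w

/-- agreement through an intermediate neighbour -/
theorem same_trans' (h : C.Hyp)
    (htri : ∀ u v w : Ω, C.adj u v → C.adj u w → C.adj v w → C.Tri u v w) {w u x u' : Ω}
    (hu : C.adj C.p u) (huw : C.adj u w) (hx : C.adj C.p x) (hxw : C.adj x w)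
    (hu' : C.adj C.p u') (hu'w : C.adj u' w) (hux : C.adj u x) (hxu' : C.adj x u') :
    Cover2.Same C w u u' :=
  Cover2.same_trans h hx (Cover2.same_of_adj h htri hu hx huw hxw hux)
    (Cover2.same_of_adj h htri hx hu' hxw hu'w hxu')

theorem same_smul (_h : C.Hyp) (k : K) {w u u' : Ω} (hS : Cover2.Same C w u u') :
    Cover2.Same C (C.ι k • w) (C.ι k • u) (C.ι k • u') := by
  intro x y y' hx hy hy' ey ey' exy
  have key : ∀ (z : M × H) (v : Ω), z.1 • C.p = C.ι k • v → (C.kh k⁻¹ * z).1 • C.p = v := by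
    intro z v hz
    rw [Prod.fst_mul, mul_smul, hz]
    change C.ι k⁻¹ • C.ι k • v = v
    rw [map_inv, inv_smul_smul]
  have h1 := hS (C.kh k⁻¹ * x) (C.kh k⁻¹ * y) (C.kh k⁻¹ * y') (key _ _ hx) (key _ _ hy)
    (key _ _ hy') (Ctx.E_left _ ey) (Ctx.E_left _ ey') (by
      have : (C.kh k⁻¹ * y)⁻¹ * (C.kh k⁻¹ * x) = y⁻¹ * x := by group
      rwa [this])
  have : (C.kh k⁻¹ * y')⁻¹ * (C.kh k⁻¹ * x) = y'⁻¹ * x := by group
  rwa [this] at h1

/-- one closed lift of a quadrangle at the base point -/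
theorem same_of_quad (h : C.Hyp) {w u u' : Ω} {x y y' : M × H} (hx : x.1 • C.p = w)
    (hy : y.1 • C.p = u) (hy' : y'.1 • C.p = u') (ey : C.E y) (ey' : C.E y')
    (exy : C.E (y⁻¹ * x)) (exy' : C.E (y'⁻¹ * x)) : Cover2.Same C w u u' := by
  intro a b b' ha hb hb' eb eb' eab
  obtain ⟨k, hk⟩ := h.lift_uniq (x := 1) (y := y) (z := b) (by rwa [inv_one, one_mul])
    (by rwa [inv_one, one_mul]) (by rw [hy, hb])
  obtain ⟨k', hk'⟩ := h.lift_uniq (x := 1) (y := y') (z := b') (by rwa [inv_one, one_mul])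
    (by rwa [inv_one, one_mul]) (by rw [hy', hb'])
  have e1 : C.E (b⁻¹ * x) := by
    have : b⁻¹ * x = C.kh k⁻¹ * (y⁻¹ * x) := by rw [hk, Ctx.kh_inv]; group
    rw [this]
    exact Ctx.E_left _ exy
  obtain ⟨l, hl⟩ := h.lift_uniq e1 eab (by rw [hx, ha])
  have : b'⁻¹ * a = C.kh k'⁻¹ * (y'⁻¹ * x) * C.kh l := by
    rw [hk', hl, Ctx.kh_inv]; group
  rw [this]
  exact Ctx.E_right _ (Ctx.E_left _ exy')

end Cover

variable {F : Type*} [Field F] {q : ℕ} [Fintype F]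

/-- The hypotheses of the step. -/
structure StepHyp (hF : Fintype.card F = q ^ 2) (n : ℕ) {H : Type*} [Group H]
    (α : SU (n + 3) F q →* H) (γ : SU 3 F q →* H) : Prop where
  hα : ∀ x : SU 2 F q, γ (emb hF 1 (by omega) x) = α (emb hF 0 (by omega) x)
  hc : ∀ (c : SU (n + 2) F q) (a : SU 2 F q),
      α (emb hF 1 (by omega) c) * γ (emb hF 0 (by omega) a) =
        γ (emb hF 0 (by omega) a) * α (emb hF 1 (by omega) c)

section

variable {n : ℕ} {H : Type*} [Group H] {α : SU (n + 3) F q →* H} {γ : SU 3 F q →* H}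

theorem StepHyp.hyp (hF : Fintype.card F = q ^ 2) (h : StepHyp hF n α γ) :
    (octx hF (n + 1) α (γ.comp (emb hF 0 (by omega)))).Hyp := by
  obtain ⟨hα, hc⟩ := h
  set φ : SU 2 F q →* H := γ.comp (emb hF 0 (by omega)) with hφ
  have hφa : ∀ a, φ a = γ (emb hF 0 (by omega) a) := fun a => rfl
  have r1 : ∀ t : SU 2 F q, emb hF 1 (by omega : 1 + (n + 3) ≤ n + 4)
      (emb hF 0 (by omega : 0 + 2 ≤ n + 3) t) =
      emb hF 0 (by omega : 0 + 3 ≤ n + 4) (emb hF 1 (by omega : 1 + 2 ≤ 3) t) := by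
    intro t
    rw [emb_emb, emb_emb]
  have r2 : ∀ a : SU 2 F q, emb hF 0 (by omega : 0 + 2 ≤ n + 4) a =
      emb hF 0 (by omega : 0 + 3 ≤ n + 4) (emb hF 0 (by omega : 0 + 2 ≤ 3) a) := by
    intro a
    rw [emb_emb]
  have r3 : ∀ (c : SU (n + 2) F q) (a : SU 2 F q),
      emb hF 1 (by omega : 1 + (n + 3) ≤ n + 4) (emb hF 1 (by omega : 1 + (n + 2) ≤ n + 3) c) *
        emb hF 0 (by omega : 0 + 2 ≤ n + 4) a =
      emb hF 0 (by omega : 0 + 2 ≤ n + 4) a *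
        emb hF 1 (by omega : 1 + (n + 3) ≤ n + 4)
          (emb hF 1 (by omega : 1 + (n + 2) ≤ n + 3) c) := by
    intro c a
    rw [emb_emb, emb_comm]
    right
    omega
  refine octx_hyp hF (n + 1) α φ ?_
  intro k a b ha e
  obtain ⟨t, c, hk, e3⟩ := decomp_of_map hF k a b ha e
  have hfix : ((emb hF 0 (by omega : 0 + 2 ≤ 3) b)⁻¹ * (emb hF 1 (by omega : 1 + 2 ≤ 3) t *
      emb hF 0 (by omega : 0 + 2 ≤ 3) a)) • e0 2 F q = e0 2 F q := by
    rw [mul_smul, mul_smul, e3, inv_smul_smul]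
  obtain ⟨d, hd⟩ := exists_emb_of_fix hF _ hfix
  have hd' : emb hF 1 (by omega : 1 + 2 ≤ 3) t * emb hF 0 (by omega : 0 + 2 ≤ 3) a =
      emb hF 0 (by omega : 0 + 2 ≤ 3) b * emb hF 1 (by omega : 1 + 2 ≤ 3) d := by
    rw [hd, mul_inv_cancel_left]
  refine ⟨emb hF 0 (by omega) d * emb hF 1 (by omega) c, ?_, ?_⟩
  · rw [hk, map_mul, map_mul, mul_assoc, r3, ← mul_assoc, ← mul_assoc, r1, r1, r2 a, r2 b,
      ← map_mul, ← map_mul, hd']
  · rw [hk, map_mul, map_mul, hφa, hφa, mul_assoc, hc, ← mul_assoc, ← mul_assoc, ← hα, ← hα,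
      ← map_mul, ← map_mul, hd']

theorem StepHyp.tri (hF : Fintype.card F = q ^ 2) (h : StepHyp hF n α γ) :
    ∀ u v w : Pt (n + 4) F q, orth u v → orth u w → orth v w →
      (octx hF (n + 1) α (γ.comp (emb hF 0 (by omega)))).Tri u v w := by
  have hyp := h.hyp hF
  obtain ⟨hα, hc⟩ := h
  set φ : SU 2 F q →* H := γ.comp (emb hF 0 (by omega)) with hφ
  have hφa : ∀ a, φ a = γ (emb hF 0 (by omega) a) := fun a => rfl
  have r1 : ∀ t : SU 2 F q, emb hF 1 (by omega : 1 + (n + 3) ≤ n + 4)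
      (emb hF 0 (by omega : 0 + 2 ≤ n + 3) t) =
      emb hF 0 (by omega : 0 + 3 ≤ n + 4) (emb hF 1 (by omega : 1 + 2 ≤ 3) t) := by
    intro t
    rw [emb_emb, emb_emb]
  have r2 : ∀ a : SU 2 F q, emb hF 0 (by omega : 0 + 2 ≤ n + 4) a =
      emb hF 0 (by omega : 0 + 3 ≤ n + 4) (emb hF 0 (by omega : 0 + 2 ≤ 3) a) := by
    intro a
    rw [emb_emb]
  -- the third subgroup
  have hB : ∀ b : SU 3 F q, orth (e0 (n + 3) F q)
      (emb hF 0 (by omega : 0 + 3 ≤ n + 4) b • e0 (n + 3) F q) →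
      (octx hF (n + 1) α φ).E (emb hF 0 (by omega : 0 + 3 ≤ n + 4) b, γ b) := by
    intro b hb
    have hb3 := adj_emb_three hF b (adj_of_orth hb)
    obtain ⟨k, a, hka⟩ := exists_of_adj hF (n := 0) _ hb3
    have hfix : ((emb hF 1 (by omega : 1 + 2 ≤ 3) k * emb hF 0 (by omega : 0 + 2 ≤ 3) a)⁻¹ * b) •
        e0 2 F q = e0 2 F q := by
      rw [mul_smul, inv_smul_eq_iff, mul_smul]
      exact hka.symm
    obtain ⟨l, hl⟩ := exists_emb_of_fix hF _ hfix
    have hbe : b = emb hF 1 (by omega : 1 + 2 ≤ 3) k * emb hF 0 (by omega : 0 + 2 ≤ 3) a *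
        emb hF 1 (by omega : 1 + 2 ≤ 3) l := by
      rw [hl, mul_inv_cancel_left]
    have hpos : emb hF 0 (by omega : 0 + 3 ≤ n + 4) b =
        emb hF 1 (by omega : 1 + (n + 3) ≤ n + 4) (emb hF 0 (by omega : 0 + 2 ≤ n + 3) k) *
          emb hF 0 (by omega : 0 + 2 ≤ n + 4) a *
          emb hF 1 (by omega : 1 + (n + 3) ≤ n + 4) (emb hF 0 (by omega : 0 + 2 ≤ n + 3) l) := by
      rw [r1, r1, r2, ← map_mul, ← map_mul, ← hbe]
    refine ⟨emb hF 0 (by omega) k, a, emb hF 0 (by omega) l, ?_, ?_⟩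
    · -- `a e0` is orthogonal to `e0`
      have h5 : emb hF 0 (by omega : 0 + 3 ≤ n + 4) b • e0 (n + 3) F q =
          emb hF 1 (by omega : 1 + (n + 3) ≤ n + 4) (emb hF 0 (by omega : 0 + 2 ≤ n + 3) k) •
            emb hF 0 (by omega : 0 + 2 ≤ n + 4) a • e0 (n + 3) F q := by
        rw [hpos, mul_smul, mul_smul, emb_one_e0]
      rw [h5] at hb
      have h6 := orth_smul (emb hF 1 (by omega : 1 + (n + 3) ≤ n + 4)
        (emb hF 0 (by omega : 0 + 2 ≤ n + 3) k))⁻¹ hb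
      rw [inv_smul_smul, ← map_inv, emb_one_e0] at h6
      exact h6
    · refine Prod.ext hpos ?_
      change γ b = α (emb hF 0 (by omega) k) * φ a * α (emb hF 0 (by omega) l)
      rw [← hα, ← hα, hφa, ← map_mul, ← map_mul, ← hbe]
  -- triangles
  intro v x u hvx hvu hxu
  obtain ⟨g, x₁, x₂, x₃, h1, h2, h3⟩ := exists_frame hF v x u hvx (by
    have e1 : hermForm (n + 4) F q v.val u.val = 0 := hvu
    have e2 : hermForm (n + 4) F q x.val u.val = 0 := hxu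
    rw [e1, e2, mul_zero, mul_zero, add_zero]
    exact zero_ne_one)
  rw [← h1, ← h2, ← h3]
  apply hyp.tri_smul
  refine hyp.tri_of_hom (emb hF 0 (by omega : 0 + 3 ≤ n + 4)) γ hB x₁ x₂ x₃ ?_ ?_ ?_
  · have := orth_smul g⁻¹ hvx
    rw [← h1, ← h2, inv_smul_smul, inv_smul_smul] at this
    exact this
  · have := orth_smul g⁻¹ hvu
    rw [← h1, ← h3, inv_smul_smul, inv_smul_smul] at this
    exact this
  · have := orth_smul g⁻¹ hxu
    rw [← h2, ← h3, inv_smul_smul, inv_smul_smul] at this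
    exact this

end

/-- **The inductive step.** -/
theorem exists_extension_of_same (hF : Fintype.card F = q ^ 2) (n : ℕ) (hn : 1 ≤ n)
    {H : Type*} [Group H] (α : SU (n + 3) F q →* H) (γ : SU 3 F q →* H) (h : StepHyp hF n α γ)
    (hsame : ∀ w u u' : Pt (n + 4) F q, orth (e0 (n + 3) F q) u → orth u w →
      orth (e0 (n + 3) F q) u' → orth u' w →
      Cover2.Same (octx hF (n + 1) α (γ.comp (emb hF 0 (by omega)))) w u u') :
    ∃ Φ : SU (n + 4) F q →* H, (∀ x : SU (n + 3) F q, Φ (emb hF 1 (by omega) x) = α x) ∧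
      ∀ x : SU 2 F q, Φ (emb hF 0 (by omega) x) = γ (emb hF 0 (by omega) x) := by
  have hyp := h.hyp hF
  have htri := h.tri hF
  obtain ⟨hα, hc⟩ := h
  set φ : SU 2 F q →* H := γ.comp (emb hF 0 (by omega)) with hφ
  have hφa : ∀ a, φ a = γ (emb hF 0 (by omega) a) := fun a => rfl
  have r1 : ∀ t : SU 2 F q, emb hF 1 (by omega : 1 + (n + 3) ≤ n + 4)
      (emb hF 0 (by omega : 0 + 2 ≤ n + 3) t) =
      emb hF 0 (by omega : 0 + 3 ≤ n + 4) (emb hF 1 (by omega : 1 + 2 ≤ 3) t) := by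
    intro t
    rw [emb_emb, emb_emb]
  have r2 : ∀ a : SU 2 F q, emb hF 0 (by omega : 0 + 2 ≤ n + 4) a =
      emb hF 0 (by omega : 0 + 3 ≤ n + 4) (emb hF 0 (by omega : 0 + 2 ≤ 3) a) := by
    intro a
    rw [emb_emb]
  obtain ⟨Φ, hΦ1, hΦ2⟩ := Cover2.exists_hom_of_same hyp htri
    (fun w => exists_nbr hF (n := n) (e0 (n + 3) F q) w)
    (fun w w' h => by
      obtain ⟨m, rfl⟩ : ∃ m, n = m + 1 := ⟨n - 1, by omega⟩
      exact exists_nbr_edge hF (n := m) (e0 (m + 1 + 3) F q) w w' h)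
    (fun w u u' h1 h2 h3 h4 => hsame w u u' h1 h2 h3 h4)
  have hΦ1' : ∀ x : SU (n + 3) F q, Φ (emb hF 1 (by omega) x) = α x := hΦ1
  refine ⟨Φ, hΦ1', ?_⟩
  -- the equalizer
  have e1 : ∀ t : SU 2 F q, Φ (emb hF 0 (by omega : 0 + 3 ≤ n + 4)
      (emb hF 1 (by omega : 1 + 2 ≤ 3) t)) = γ (emb hF 1 (by omega : 1 + 2 ≤ 3) t) := by
    intro t
    rw [← r1, hΦ1', hα]
  have e2 : Φ (emb hF 0 (by omega : 0 + 3 ≤ n + 4) (emb hF 0 (by omega : 0 + 2 ≤ 3) (wey hF))) =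
      γ (emb hF 0 (by omega : 0 + 2 ≤ 3) (wey hF)) := by
    rw [← r2]
    exact hΦ2 (wey hF) (wey_orth hF (n := n + 2))
  intro a
  rw [r2]
  set β : SU 3 F q →* H := Φ.comp (emb hF 0 (by omega : 0 + 3 ≤ n + 4)) with hβ
  change β (emb hF 0 (by omega : 0 + 2 ≤ 3) a) = _
  have e1' : ∀ t : SU 2 F q, β (emb hF 1 (by omega : 1 + 2 ≤ 3) t) =
      γ (emb hF 1 (by omega : 1 + 2 ≤ 3) t) := e1
  have e2' : β (emb hF 0 (by omega : 0 + 2 ≤ 3) (wey hF)) =
      γ (emb hF 0 (by omega : 0 + 2 ≤ 3) (wey hF)) := e2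
  have h7 := congrArg β (cyc_conj hF a)
  have h8 := congrArg γ (cyc_conj hF a)
  simp only [map_mul] at h7 h8
  rw [e1', e1', e2', ← h8] at h7
  exact mul_left_cancel h7

end Cfsg.Agent.P3711
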