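import Cfsg.Agent.P3711.Step

/-!
# The field with four elements: dimensions five and six
-/

set_option autoImplicit false

namespace Cfsg.Agent.P3711

open Matrix Cfsg Cfsg.Agent.Phan Cfsg.Agent.Phan.Cover Cfsg.Agent.H434
open Cfsg.Agent.LieClassical.HermBasic

variable {F : Type*} [Field F] [Fintype F]

theorem two_eq_zero (hF : Fintype.card F = 2 ^ 2) : (2 : F) = 0 := by
  have h1 : ((Fintype.card F : ℕ) : F) = 0 := FiniteField.cast_card_eq_zero F
  rw [hF] at h1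
  have h2 : (2 : F) * 2 = 0 := by
    have : ((2 ^ 2 : ℕ) : F) = 2 * 2 := by push_cast; ring
    rw [← this]; exact h1
  exact mul_self_eq_zero.1 h2

theorem one_add_one (hF : Fintype.card F = 2 ^ 2) : (1 : F) + 1 = 0 := by
  have := two_eq_zero hF
  rw [← this]; ring

theorem neg_eq (hF : Fintype.card F = 2 ^ 2) (x : F) : -x = x := by
  have := two_eq_zero hF
  linear_combination -x * this

theorem eq_of_add (hF : Fintype.card F = 2 ^ 2) {x y : F} (h : x + y = 0) : x = y := by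
  rw [← neg_eq hF y]
  exact eq_neg_of_add_eq_zero_left h

theorem norm_two (hF : Fintype.card F = 2 ^ 2) {a : F} (ha : a ≠ 0) : a * a ^ 2 = 1 := by
  have h1 := FiniteField.pow_card_sub_one_eq_one a ha
  rw [hF] at h1
  rw [← pow_succ']
  exact h1

theorem norm_eq_one_iff (hF : Fintype.card F = 2 ^ 2) {a : F} : a * a ^ 2 = 1 ↔ a ≠ 0 := by
  constructor
  · rintro h rfl
    rw [zero_mul] at h
    exact zero_ne_one h
  · exact norm_two hF

theorem norm_zero_or_one (hF : Fintype.card F = 2 ^ 2) (a : F) :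
    (a = 0 ∧ a * a ^ 2 = 0) ∨ (a ≠ 0 ∧ a * a ^ 2 = 1) := by
  by_cases h : a = 0
  · left
    rw [h, zero_mul]
    exact ⟨rfl, rfl⟩
  · exact Or.inr ⟨h, norm_two hF h⟩

/-- the standard isotropic vector -/
def iso0 (n : ℕ) (F : Type*) [Field F] : Fin (n + 3) → F := Fin.cons 1 (Pi.single 0 1)

/-- transitivity on isotropic vectors -/
theorem exists_su_iso (hF : Fintype.card F = 2 ^ 2) {n : ℕ} {r : Fin (n + 3) → F}
    (hr : hermForm (n + 3) F 2 r r = 0) (h0 : r ≠ 0) :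
    ∃ g : SU (n + 3) F 2, mat g *ᵥ (iso0 n F) = r := by
  obtain ⟨y, hy⟩ := exists_unit_of_isotropic hF hr h0 (one_ne_zero (α := F))
  obtain ⟨g₁, hg₁⟩ := exists_su_smul hF (e0 (n + 2) F 2) y
  set r' := mat g₁⁻¹ *ᵥ r with hr'
  have hrr : mat g₁ *ᵥ r' = r := by
    rw [hr', Matrix.mulVec_mulVec, mat_mul_inv, Matrix.one_mulVec]
  have hk : mat g₁ *ᵥ (e0 (n + 2) F 2).val = y.val := congrArg Pt.val hg₁
  have h1 : r' 0 = 1 := by
    have h1 := hy
    rw [← hk, ← hrr, mat_isom, herm_e0_left] at h1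
    have h2 := congrArg (fun z => z ^ 2) h1
    simpa [pow_q_pow_q hF] using h2
  have hn : hermForm (n + 3) F 2 r' r' = 0 := by
    rw [← mat_isom g₁, hrr, hr]
  have hdec := cons_tl r'
  rw [← hdec, herm_cons, h1, one_pow, mul_one] at hn
  have hn' : hermForm (n + 2) F 2 (tl r') (tl r') = 1 := (eq_of_add hF hn).symm
  obtain ⟨g₂, hg₂⟩ := exists_su_map hF (n := n) (u := Pi.single 0 1) (v := tl r') (by
    rw [herm_single_left, Pi.single_eq_same, one_pow, mul_one, hn']) (by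
    rw [herm_single_left, Pi.single_eq_same, one_pow, mul_one]; exact one_ne_zero)
  refine ⟨g₁ * emb hF 1 (by omega : 1 + (n + 2) ≤ n + 3) g₂, ?_⟩
  rw [mat_mul, ← Matrix.mulVec_mulVec, iso0, emb_one_cons, hg₂, ← h1, hdec, hrr]

/-- the orbits of the stabiliser on the non-neighbours -/
theorem nonorth_cases (hF : Fintype.card F = 2 ^ 2) {n : ℕ} (w : Pt (n + 4) F 2)
    (hw : ¬ orth (e0 (n + 3) F 2) w) :
    (∃ a : F, w.val = Fin.cons a 0) ∨ ∃ (a : F) (g : SU (n + 3) F 2) (w₀ : Pt (n + 4) F 2),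
      w₀.val = Fin.cons a (iso0 n F) ∧
        w = emb hF 1 (by omega : 1 + (n + 3) ≤ n + 4) g • w₀ := by
  have ha : w.val 0 ≠ 0 := by
    intro h
    apply hw
    rw [orth, herm_e0_left, h, zero_pow_q hF]
  have hdec := cons_tl w.val
  have hn := w.norm
  rw [← hdec, herm_cons, norm_two hF ha] at hn
  have hn' : hermForm (n + 3) F 2 (tl w.val) (tl w.val) = 0 := by
    have : (1 : F) + hermForm (n + 3) F 2 (tl w.val) (tl w.val) = 1 + 0 := by rw [hn, add_zero]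
    exact add_left_cancel this
  by_cases h0 : tl w.val = 0
  · left
    exact ⟨w.val 0, by rw [← h0, hdec]⟩
  · right
    obtain ⟨g, hg⟩ := exists_su_iso hF hn' h0
    refine ⟨w.val 0, g, (emb hF 1 (by omega : 1 + (n + 3) ≤ n + 4) g)⁻¹ • w, ?_,
      by rw [smul_inv_smul]⟩
    rw [smul_val]
    have h1 : mat (emb hF 1 (by omega : 1 + (n + 3) ≤ n + 4) g) *ᵥ (Fin.cons (w.val 0) (iso0 n F)) =
        w.val := by
      rw [emb_one_cons, hg, hdec]
    conv_lhs => rw [← h1, Matrix.mulVec_mulVec, mat_inv_mul, Matrix.one_mulVec]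

section same

variable {n : ℕ} {H : Type*} [Group H] {α : SU (n + 3) F 2 →* H} {γ : SU 3 F 2 →* H}

/-- reduction of the agreement of lifts to the standard vector -/
theorem same_reduce (hF : Fintype.card F = 2 ^ 2) (h : StepHyp hF n α γ) (hn : 1 ≤ n)
    (hstd : ∀ (a : F) (w₀ : Pt (n + 4) F 2), a ≠ 0 → w₀.val = Fin.cons a (iso0 n F) →
      ∀ u u', orth (e0 (n + 3) F 2) u → orth u w₀ → orth (e0 (n + 3) F 2) u' → orth u' w₀ →
      Cover2.Same (octx hF (n + 1) α (γ.comp (emb hF 0 (by omega)))) w₀ u u') :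
    ∀ w u u' : Pt (n + 4) F 2, orth (e0 (n + 3) F 2) u → orth u w →
      orth (e0 (n + 3) F 2) u' → orth u' w →
      Cover2.Same (octx hF (n + 1) α (γ.comp (emb hF 0 (by omega)))) w u u' := by
  intro w u u' h1 h2 h3 h4
  have hyp := h.hyp hF
  have htri := h.tri hF
  by_cases hpw : orth (e0 (n + 3) F 2) w
  · exact same_of_adj_base hyp htri hpw h1 h2 h3 h4
  rcases nonorth_cases hF w hpw with ⟨a, ha⟩ | ⟨a, g, w₀, hw₀, hw⟩
  · -- `w` is a multiple of the base point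
    obtain ⟨m, rfl⟩ : ∃ m, n = m + 1 := ⟨n - 1, by omega⟩
    obtain ⟨x, x1, x2, x3⟩ := exists_nbr_edge hF (n := m) u' (e0 (m + 1 + 3) F 2) u h1
    have hxw : orth x w := by
      have h5 : orth (e0 (m + 1 + 3) F 2) x := orth_symm hF x2
      rw [orth, herm_e0_left, pow_q_eq_zero hF] at h5
      rw [orth, ha, ← cons_tl x.val, h5, herm_cons, zero_mul, herm_zero_right hF, add_zero]
    exact same_trans' hyp htri h1 h2 (orth_symm hF x2) hxw h3 h4 (orth_symm hF x3)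
      (orth_symm hF x1)
  · have h5 := hstd a w₀ (by
      rintro rfl
      apply hpw
      rw [hw, orth, ← emb_one_e0 hF g, smul_val, smul_val, mat_isom, herm_e0_left, hw₀,
        Fin.cons_zero, zero_pow_q hF]) hw₀
    have e1 : ∀ v : Pt (n + 4) F 2, orth (e0 (n + 3) F 2) v → orth v w →
        orth (e0 (n + 3) F 2) ((emb hF 1 (by omega : 1 + (n + 3) ≤ n + 4) g)⁻¹ • v) ∧
        orth ((emb hF 1 (by omega : 1 + (n + 3) ≤ n + 4) g)⁻¹ • v) w₀ := by
      intro v hv hvw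
      constructor
      · have := orth_smul (emb hF 1 (by omega : 1 + (n + 3) ≤ n + 4) g)⁻¹ hv
        rwa [← map_inv, emb_one_e0, map_inv] at this
      · have := orth_smul (emb hF 1 (by omega : 1 + (n + 3) ≤ n + 4) g)⁻¹ hvw
        rwa [hw, inv_smul_smul] at this
    have h6 := same_smul hyp g (h5 _ _ (e1 u h1 h2).1 (e1 u h1 h2).2 (e1 u' h3 h4).1
      (e1 u' h3 h4).2)
    change Cover2.Same _ (emb hF 1 (by omega : 1 + (n + 3) ≤ n + 4) g • w₀)
      (emb hF 1 (by omega : 1 + (n + 3) ≤ n + 4) g • _)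
      (emb hF 1 (by omega : 1 + (n + 3) ≤ n + 4) g • _) at h6
    rwa [smul_inv_smul, smul_inv_smul, ← hw] at h6

/-- neighbours of the base point and the standard vector -/
theorem nbr_coords (hF : Fintype.card F = 2 ^ 2) {m : ℕ} {a : F} {w₀ u : Pt (m + 4) F 2}
    (hw : w₀.val = Fin.cons a (iso0 m F)) (h1 : orth (e0 (m + 3) F 2) u) (h2 : orth u w₀) :
    ∃ (c : F) (b : Fin (m + 1) → F), u.val = Fin.cons 0 (Fin.cons c (Fin.cons c b)) ∧
      hermForm (m + 1) F 2 b b = 1 := by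
  rw [orth, herm_e0_left, pow_q_eq_zero hF] at h1
  set v := tl u.val with hv
  have e1 : u.val = Fin.cons 0 v := by rw [← h1, hv, cons_tl]
  have e2 : v = Fin.cons (v 0) (tl v) := (cons_tl v).symm
  have e3 : tl v = Fin.cons (tl v 0) (tl (tl v)) := (cons_tl (tl v)).symm
  rw [orth, hw, e1, herm_cons, zero_mul, zero_add, iso0, e2, herm_cons, one_pow, mul_one,
    herm_single_right hF, one_pow, mul_one] at h2
  have e4 : tl v 0 = v 0 := (eq_of_add hF h2).symm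
  have hn := u.norm
  rw [e1, e2, e3, herm_cons, herm_cons, herm_cons, zero_mul, zero_add, e4, ← add_assoc] at hn
  have e5 : v 0 * v 0 ^ 2 + v 0 * v 0 ^ 2 = 0 := by
    have := two_eq_zero hF
    linear_combination (v 0 * v 0 ^ 2) * this
  rw [e5, zero_add] at hn
  refine ⟨v 0, tl (tl v), ?_, hn⟩
  conv_lhs => rw [e1, e2, e3, e4]

end same

/-- **Dimension five.** -/
theorem exists_extension_five (hF : Fintype.card F = 2 ^ 2) {H : Type*} [Group H]
    (α : SU 4 F 2 →* H) (γ : SU 3 F 2 →* H) (h : StepHyp hF 1 α γ) :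
    ∃ Φ : SU 5 F 2 →* H, (∀ x : SU 4 F 2, Φ (emb hF 1 (by omega) x) = α x) ∧
      ∀ x : SU 2 F 2, Φ (emb hF 0 (by omega) x) = γ (emb hF 0 (by omega) x) := by
  refine exists_extension_of_same hF 1 le_rfl α γ h ?_
  refine same_reduce hF h le_rfl ?_
  intro a w₀ _ hw₀ u u' h1 h2 h3 h4
  have hyp := h.hyp hF
  have htri := h.tri hF
  -- the two basis vectors
  have hv : ∀ b : Fin 2 → F, hermForm 2 F 2 b b = 1 →
      hermForm 5 F 2 (Fin.cons 0 (Fin.cons 0 (Fin.cons 0 b)))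
        (Fin.cons 0 (Fin.cons 0 (Fin.cons 0 b))) = 1 := by
    intro b hb
    rw [herm_cons, herm_cons, herm_cons, hb, zero_mul, zero_add, zero_add, zero_add]
  have hvo : ∀ (b : Fin 2 → F) (hb : hermForm 2 F 2 b b = 1),
      orth (e0 4 F 2) ⟨_, hv b hb⟩ ∧ orth ⟨_, hv b hb⟩ w₀ := by
    intro b hb
    constructor
    · rw [orth, herm_e0_left]
      exact zero_pow_q hF
    · rw [orth, hw₀, iso0]
      change hermForm 5 F 2 (Fin.cons 0 (Fin.cons 0 (Fin.cons 0 b))) _ = 0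
      rw [herm_cons, herm_cons, zero_mul, zero_mul, zero_add, zero_add, herm_single_right hF,
        Fin.cons_zero, zero_mul]
  have hs0 : hermForm 2 F 2 (Fin.cons 1 (Fin.cons 0 0)) (Fin.cons 1 (Fin.cons 0 0)) = 1 := by
    rw [herm_cons, herm_cons, herm_zero_left]; simp
  have hs1 : hermForm 2 F 2 (Fin.cons 0 (Fin.cons 1 0)) (Fin.cons 0 (Fin.cons 1 0)) = 1 := by
    rw [herm_cons, herm_cons, herm_zero_left]; simp
  set f0 : Pt 5 F 2 := ⟨_, hv _ hs0⟩ with hf0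
  set f1 : Pt 5 F 2 := ⟨_, hv _ hs1⟩ with hf1
  have o0 := hvo _ hs0
  have o1 := hvo _ hs1
  have o01 : orth f0 f1 := by
    rw [orth, hf0, hf1]
    change hermForm 5 F 2 (Fin.cons 0 (Fin.cons 0 (Fin.cons 0 (Fin.cons 1 (Fin.cons 0 0)))))
      (Fin.cons 0 (Fin.cons 0 (Fin.cons 0 (Fin.cons 0 (Fin.cons 1 0))))) = 0
    simp only [herm_cons, herm_zero_left]
    simp
  -- every neighbour is orthogonal to one of the two
  have key : ∀ v : Pt 5 F 2, orth (e0 4 F 2) v → orth v w₀ → orth v f0 ∨ orth v f1 := by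
    intro v hv1 hv2
    obtain ⟨c, b, e, hb⟩ := nbr_coords hF hw₀ hv1 hv2
    have hb' : b = Fin.cons (b 0) (Fin.cons (b 1) 0) := by
      funext i
      fin_cases i <;> rfl
    rw [hb', herm_cons, herm_cons, herm_zero_left, add_zero] at hb
    have hor : b 0 = 0 ∨ b 1 = 0 := by
      by_contra hcon
      push Not at hcon
      rw [norm_two hF hcon.1, norm_two hF hcon.2, one_add_one hF] at hb
      exact zero_ne_one hb
    rcases hor with h0 | h0
    · left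
      rw [orth, e, hf0, hb', h0]
      change hermForm 5 F 2 _
        (Fin.cons 0 (Fin.cons 0 (Fin.cons 0 (Fin.cons 1 (Fin.cons 0 0))))) = 0
      simp only [herm_cons, herm_zero_left]
      simp
    · right
      rw [orth, e, hf1, hb', h0]
      change hermForm 5 F 2 _
        (Fin.cons 0 (Fin.cons 0 (Fin.cons 0 (Fin.cons 0 (Fin.cons 1 0))))) = 0
      simp only [herm_cons, herm_zero_left]
      simp
  -- all lifts agree with the one through `f0`
  have key2 : ∀ v : Pt 5 F 2, orth (e0 4 F 2) v → orth v w₀ →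
      Cover2.Same (octx hF (1 + 1) α (γ.comp (emb hF 0 (by omega)))) w₀ v f0 := by
    intro v hv1 hv2
    rcases key v hv1 hv2 with h0 | h0
    · exact Cover2.same_of_adj hyp htri hv1 o0.1 hv2 o0.2 h0
    · exact same_trans' hyp htri hv1 hv2 o1.1 o1.2 o0.1 o0.2 h0 (orth_symm hF o01)
  exact Cover2.same_trans hyp o0.1 (key2 u h1 h2) (same_symm hyp (key2 u' h3 h4) h4)

omit [Fintype F] in
theorem e0_eq_pe {n q : ℕ} : e0 n F q = pe (n + 1) F q 0 := rfl

theorem emb_smul_pe_sh {q : ℕ} (hF : Fintype.card F = q ^ 2) {m n : ℕ} (k : ℕ) (h : k + m ≤ n)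
    (x : SU m F q) {i j : Fin m} (hx : x • pe m F q i = pe m F q j) :
    emb hF k h x • pe n F q (sh k h i) = pe n F q (sh k h j) := by
  apply Pt.ext'
  rw [smul_val]
  change mat (emb hF k h x) *ᵥ (Pi.single (sh k h i) 1) = Pi.single (sh k h j) 1
  have hx' : mat x *ᵥ (Pi.single i 1) = Pi.single j 1 := congrArg Pt.val hx
  rw [Matrix.mulVec_single_one] at hx'
  funext y
  rw [Matrix.mulVec_single_one]
  change extM (sh k h) (mat x) y (sh k h i) = _
  by_cases hy : ∃ l, y = sh k h l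
  · obtain ⟨l, rfl⟩ := hy
    rw [extM_apply (sh_injective k h), Pi.single_apply]
    have := congrFun hx' l
    change mat x l i = _ at this
    rw [this, Pi.single_apply]
    by_cases hlj : l = j
    · rw [if_pos hlj, if_pos (by rw [hlj])]
    · rw [if_neg hlj, if_neg (fun e => hlj (sh_injective k h e))]
  · push Not at hy
    rw [extM_apply_left hy, Matrix.one_apply, Pi.single_apply, if_neg (hy i), if_neg (hy j)]

/-- embeddings at position three -/
theorem emb_three_mulVec (hF : Fintype.card F = 2 ^ 2) {m : ℕ} (g : SU m F 2)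
    (a b c : F) (v : Fin m → F) :
    mat (emb hF 3 (by omega : 3 + m ≤ m + 3) g) *ᵥ
      (Fin.cons a (Fin.cons b (Fin.cons c v)) : Fin (m + 3) → F) =
      Fin.cons a (Fin.cons b (Fin.cons c (mat g *ᵥ v))) := by
  have e : emb hF 3 (by omega : 3 + m ≤ m + 3) g =
      emb hF 1 (by omega : 1 + (m + 2) ≤ m + 3) (emb hF 1 (by omega : 1 + (m + 1) ≤ m + 2)
        (emb hF 1 (by omega : 1 + m ≤ m + 1) g)) := by
    rw [emb_emb, emb_emb]
  rw [e, emb_one_cons, emb_one_cons, emb_one_cons]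

/-- **Dimension six.** -/
theorem exists_extension_six (hF : Fintype.card F = 2 ^ 2) {H : Type*} [Group H]
    (α : SU 5 F 2 →* H) (Γ : SU 4 F 2 →* H)
    (h : StepHyp hF 2 α (Γ.comp (emb hF 0 (by omega : 0 + 3 ≤ 4))))
    (hΓ : ∀ x : SU 3 F 2, Γ (emb hF 1 (by omega : 1 + 3 ≤ 4) x) =
      α (emb hF 0 (by omega : 0 + 3 ≤ 5) x))
    (hcc : ∀ b c : SU 3 F 2, Γ (emb hF 0 (by omega : 0 + 3 ≤ 4) b) *
      α (emb hF 2 (by omega : 2 + 3 ≤ 5) c) =
      α (emb hF 2 (by omega : 2 + 3 ≤ 5) c) * Γ (emb hF 0 (by omega : 0 + 3 ≤ 4) b)) :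
    ∃ Φ : SU 6 F 2 →* H, (∀ x : SU 5 F 2, Φ (emb hF 1 (by omega) x) = α x) ∧
      ∀ x : SU 2 F 2, Φ (emb hF 0 (by omega) x) =
        Γ (emb hF 0 (by omega : 0 + 3 ≤ 4) (emb hF 0 (by omega : 0 + 2 ≤ 3) x)) := by
  refine exists_extension_of_same hF 2 (by omega) α (Γ.comp (emb hF 0 (by omega : 0 + 3 ≤ 4))) h ?_
  refine same_reduce hF h (by omega) ?_
  intro a w₀ _ hw₀ u u' h1 h2 h3 h4
  have hyp := h.hyp hF
  have htri := h.tri hF
  obtain ⟨hα, hc⟩ := h
  set γ : SU 3 F 2 →* H := Γ.comp (emb hF 0 (by omega : 0 + 3 ≤ 4)) with hγ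
  set φ : SU 2 F 2 →* H := γ.comp (emb hF 0 (by omega : 0 + 2 ≤ 3)) with hφ
  set C := octx hF (2 + 1) α φ with hC
  -- `E` for elements of the first `SU 4`
  have hE4 : ∀ z : SU 4 F 2, orth (e0 3 F 2) (z • e0 3 F 2) →
      C.E (emb hF 0 (by omega : 0 + 4 ≤ 6) z, Γ z) := by
    intro z hz
    obtain ⟨k, b, hkb⟩ := exists_of_adj hF (n := 1) _ (adj_of_orth hz)
    have hfix : ((emb hF 1 (by omega : 1 + 3 ≤ 4) k * emb hF 0 (by omega : 0 + 2 ≤ 4) b)⁻¹ * z) •
        e0 3 F 2 = e0 3 F 2 := by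
      rw [mul_smul, inv_smul_eq_iff, mul_smul]
      exact hkb.symm
    obtain ⟨l, hl⟩ := exists_emb_of_fix hF _ hfix
    have hze : z = emb hF 1 (by omega : 1 + 3 ≤ 4) k * emb hF 0 (by omega : 0 + 2 ≤ 4) b *
        emb hF 1 (by omega : 1 + 3 ≤ 4) l := by
      rw [hl, mul_inv_cancel_left]
    have r1 : ∀ t : SU 3 F 2, emb hF 1 (by omega : 1 + 5 ≤ 6)
        (emb hF 0 (by omega : 0 + 3 ≤ 5) t) =
        emb hF 0 (by omega : 0 + 4 ≤ 6) (emb hF 1 (by omega : 1 + 3 ≤ 4) t) := by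
      intro t
      rw [emb_emb, emb_emb]
    have r2 : emb hF 0 (by omega : 0 + 2 ≤ 6) b =
        emb hF 0 (by omega : 0 + 4 ≤ 6) (emb hF 0 (by omega : 0 + 2 ≤ 4) b) := by
      rw [emb_emb]
    have r3 : emb hF 0 (by omega : 0 + 2 ≤ 4) b =
        emb hF 0 (by omega : 0 + 3 ≤ 4) (emb hF 0 (by omega : 0 + 2 ≤ 3) b) := by
      rw [emb_emb]
    refine ⟨emb hF 0 (by omega) k, b, emb hF 0 (by omega) l, ?_, ?_⟩
    · -- `b e0` is orthogonal to `e0`
      have h5 : orth (e0 3 F 2) (emb hF 0 (by omega : 0 + 2 ≤ 4) b • e0 3 F 2) := by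
        have h6 := orth_smul (emb hF 1 (by omega : 1 + 3 ≤ 4) k)⁻¹ hz
        rw [← hkb, inv_smul_smul, ← map_inv, emb_one_e0] at h6
        exact h6
      have h6 : mat b 0 0 = 0 := by
        rw [orth, herm_e0_left, emb_zero_e0 (n := 2), Fin.cons_zero, pow_q_eq_zero hF] at h5
        exact h5
      change orth (e0 5 F 2) (emb hF 0 (by omega : 0 + 2 ≤ 6) b • e0 5 F 2)
      rw [orth, herm_e0_left, emb_zero_e0 (n := 4), Fin.cons_zero, h6, zero_pow_q hF]
    · refine Prod.ext ?_ ?_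
      · change emb hF 0 (by omega : 0 + 4 ≤ 6) z =
          emb hF 1 (by omega : 1 + 5 ≤ 6) (emb hF 0 (by omega : 0 + 3 ≤ 5) k) *
            emb hF 0 (by omega : 0 + 2 ≤ 6) b *
            emb hF 1 (by omega : 1 + 5 ≤ 6) (emb hF 0 (by omega : 0 + 3 ≤ 5) l)
        rw [r1, r1, r2, ← map_mul, ← map_mul, ← hze]
      · change Γ z = α (emb hF 0 (by omega) k) * Γ (emb hF 0 (by omega : 0 + 3 ≤ 4)
          (emb hF 0 (by omega : 0 + 2 ≤ 3) b)) * α (emb hF 0 (by omega) l)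
        rw [← hΓ, ← hΓ, ← r3, ← map_mul, ← map_mul, ← hze]
  -- an element moving `e0` to `e3`
  obtain ⟨y₀, hy₀⟩ := exists_su_smul hF (e0 3 F 2) (pe 4 F 2 3)
  have hy₀o : orth (e0 3 F 2) (y₀ • e0 3 F 2) := by
    rw [hy₀, orth, herm_e0_left]
    change (Pi.single 3 1 : Fin 4 → F) 0 ^ 2 = 0
    rw [Pi.single_eq_of_ne (by decide), zero_pow_q hF]
  set y : SU 6 F 2 × H := (emb hF 0 (by omega : 0 + 4 ≤ 6) y₀, Γ y₀) with hy
  have ey : C.E y := hE4 y₀ hy₀o
  have hyp3 : y.1 • e0 5 F 2 = pe 6 F 2 3 := by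
    change emb hF 0 (by omega : 0 + 4 ≤ 6) y₀ • pe 6 F 2 (sh 0 (by omega : 0 + 4 ≤ 6) 0) =
      pe 6 F 2 (sh 0 (by omega : 0 + 4 ≤ 6) 3)
    exact emb_smul_pe_sh hF 0 (by omega : 0 + 4 ≤ 6) y₀ hy₀
  -- an element of the first `SU 3` moving `e0` to `w₀`
  obtain ⟨b, hb⟩ := exists_su3 hF (n := 3) w₀ a 1 1 hw₀
  set x : SU 6 F 2 × H := (emb hF 0 (by omega : 0 + 4 ≤ 6) (emb hF 0 (by omega : 0 + 3 ≤ 4) b),
    Γ (emb hF 0 (by omega : 0 + 3 ≤ 4) b)) with hx
  have hxp : x.1 • C.p = w₀ := by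
    change emb hF 0 (by omega : 0 + 4 ≤ 6) (emb hF 0 (by omega : 0 + 3 ≤ 4) b) • e0 5 F 2 = w₀
    rw [emb_emb]
    exact hb
  have hyx : C.E (y⁻¹ * x) := by
    have hfix : (y₀⁻¹ * emb hF 0 (by omega : 0 + 3 ≤ 4) b * y₀) • e0 3 F 2 = e0 3 F 2 := by
      rw [mul_smul, mul_smul, hy₀, emb_smul_pe hF 0 (by omega : 0 + 3 ≤ 4) b (i := 3)
        (Or.inr (by simp)), inv_smul_eq_iff, hy₀]
    obtain ⟨t, ht⟩ := exists_emb_of_fix hF _ hfix
    have h5 : y⁻¹ * x = C.kh (emb hF 0 (by omega : 0 + 3 ≤ 5) t) * y⁻¹ := by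
      rw [eq_mul_inv_iff_mul_eq]
      refine Prod.ext ?_ ?_
      · change (emb hF 0 (by omega : 0 + 4 ≤ 6) y₀)⁻¹ * emb hF 0 (by omega : 0 + 4 ≤ 6)
          (emb hF 0 (by omega : 0 + 3 ≤ 4) b) * emb hF 0 (by omega : 0 + 4 ≤ 6) y₀ =
          emb hF 1 (by omega : 1 + 5 ≤ 6) (emb hF 0 (by omega : 0 + 3 ≤ 5) t)
        rw [← map_inv, ← map_mul, ← map_mul, ← ht, emb_emb, emb_emb]
      · change (Γ y₀)⁻¹ * Γ (emb hF 0 (by omega : 0 + 3 ≤ 4) b) * Γ y₀ =
          α (emb hF 0 (by omega : 0 + 3 ≤ 5) t)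
        rw [← hΓ, ht, map_mul, map_mul, map_inv]
    rw [h5]
    exact Ctx.E_left _ (hyp.E_inv ey)
  -- the elements of the last `SU 3`
  set B : SU 3 F 2 → SU 6 F 2 × H := fun c => C.kh (emb hF 2 (by omega : 2 + 3 ≤ 5) c) with hB
  have hBx : ∀ c, (B c)⁻¹ * x = x * (B c)⁻¹ := by
    intro c
    have h5 : x * B c = B c * x := by
      refine Prod.ext ?_ ?_
      · change emb hF 0 (by omega : 0 + 4 ≤ 6) (emb hF 0 (by omega : 0 + 3 ≤ 4) b) *
          emb hF 1 (by omega : 1 + 5 ≤ 6) (emb hF 2 (by omega : 2 + 3 ≤ 5) c) =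
          emb hF 1 (by omega : 1 + 5 ≤ 6) (emb hF 2 (by omega : 2 + 3 ≤ 5) c) *
          emb hF 0 (by omega : 0 + 4 ≤ 6) (emb hF 0 (by omega : 0 + 3 ≤ 4) b)
        rw [emb_emb, emb_emb, emb_comm]
        left
        omega
      · exact hcc b c
    rw [inv_mul_eq_iff_eq_mul, ← mul_assoc, ← h5, mul_assoc, mul_inv_cancel, mul_one]
  have hz : ∀ c, C.E (B c * y) ∧ C.E ((B c * y)⁻¹ * x) := by
    intro c
    refine ⟨Ctx.E_left _ ey, ?_⟩
    rw [_root_.mul_inv_rev, mul_assoc, hBx, ← mul_assoc]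
    have : (B c)⁻¹ = C.kh (emb hF 2 (by omega : 2 + 3 ≤ 5) c)⁻¹ := by rw [Ctx.kh_inv]
    rw [this]
    exact Ctx.E_right _ hyx
  have hsame : ∀ c c' : SU 3 F 2, Cover2.Same C w₀ ((B c * y).1 • C.p) ((B c' * y).1 • C.p) :=
    fun c c' => same_of_quad hyp hxp rfl rfl (hz c).1 (hz c').1 (hz c).2 (hz c').2
  have hval : ∀ c, ((B c * y).1 • C.p).val =
      Fin.cons 0 (Fin.cons 0 (Fin.cons 0 (c • e0 2 F 2).val)) := by
    intro c
    rw [Prod.fst_mul, mul_smul]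
    change (emb hF 1 (by omega : 1 + 5 ≤ 6) (emb hF 2 (by omega : 2 + 3 ≤ 5) c) •
      (y.1 • e0 5 F 2)).val = _
    rw [hyp3, emb_emb, smul_val, smul_val]
    have h5 : (pe 6 F 2 3).val = Fin.cons 0 (Fin.cons 0 (Fin.cons 0 (e0 2 F 2).val)) := by
      funext i
      fin_cases i <;> rfl
    rw [h5]
    exact emb_three_mulVec hF c 0 0 0 _
  -- every neighbour is orthogonal to one of them
  have key : ∀ v : Pt 6 F 2, orth (e0 5 F 2) v → orth v w₀ →
      ∃ c, orth v ((B c * y).1 • C.p) ∧ orth (e0 5 F 2) ((B c * y).1 • C.p) ∧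
        orth ((B c * y).1 • C.p) w₀ := by
    intro v hv1 hv2
    obtain ⟨t, b', e, hb'⟩ := nbr_coords hF hw₀ hv1 hv2
    obtain ⟨f, hf⟩ := exists_perp hF 1 3 (fun _ => b') le_rfl
    obtain ⟨c, hcf⟩ := exists_su_smul hF (e0 2 F 2) f
    refine ⟨c, ?_, ?_, ?_⟩
    · rw [orth, hval, e, hcf, herm_cons, herm_cons, herm_cons, zero_pow_q hF,
        herm_eq_zero_swap hF (hf 0)]
      ring
    · rw [orth, hval, herm_e0_left]
      exact zero_pow_q hF
    · rw [orth, hval, hw₀, iso0, herm_cons, herm_cons, herm_single_right hF, Fin.cons_zero]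
      ring
  have key2 : ∀ v : Pt 6 F 2, orth (e0 5 F 2) v → orth v w₀ →
      Cover2.Same C w₀ v ((B 1 * y).1 • C.p) := by
    intro v hv1 hv2
    obtain ⟨c, c1, c2, c3⟩ := key v hv1 hv2
    exact Cover2.same_trans hyp c2 (Cover2.same_of_adj hyp htri hv1 c2 hv2 c3 c1) (hsame c 1)
  obtain ⟨c, c1, c2, c3⟩ := key u h1 h2
  have h7 : orth (e0 5 F 2) ((B 1 * y).1 • C.p) := hyp.E_adj (hz 1).1
  exact Cover2.same_trans hyp h7 (key2 u h1 h2) (same_symm hyp (key2 u' h3 h4) h4)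

end Cfsg.Agent.P3711
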